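import Cfsg.Agent.H70.Phan.SLModel
import Cfsg.Agent.H55.PSLAutTwo
import Cfsg.Agent.H50.SU3Inv

/-!
The subgroups of `SU_3` isomorphic to `SU_2` are point stabilisers; commuting torus elements of two
such stabilisers have orthogonal or proportional points.
-/

set_option autoImplicit false
set_option linter.unusedSectionVars false

namespace H70.Phan

open Matrix Cfsg H50

variable {F : Type*} [Field F] [Fintype F] {q : ℕ} (hF : Fintype.card F = q ^ 2)
include hF

theorem iso_prop {v w : Fin 3 → F} (hv : v ≠ 0) (hvv : hermForm 3 F q v v = 0)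
    (hww : hermForm 3 F q w w = 0) (hvw : hermForm 3 F q v w = 0) : ∃ c : F, w = c • v := by
  by_contra hc
  push Not at hc
  have hli : LinearIndependent F ![v, w] :=
    (LinearIndependent.pair_iff' hv).2 fun c e => hc c e.symm
  have := totIsotropic_card_le hF hli (fun i j => by
    fin_cases i <;> fin_cases j <;> simp [hvv, hww, hvw, (h_eq_zero_comm hF).1 hvw])
  omega

/-- An involution in characteristic two is a transvection. -/
theorem exists_centre [CharP F 2] {t : SU 3 F q} (ht2 : t * t = 1) (ht : t ≠ 1) :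
    ∃ v x₀ : Fin 3 → F, v ≠ 0 ∧ hermForm 3 F q v v = 0 ∧ v = suMat t *ᵥ x₀ - x₀ ∧
      (∀ x, ∃ c : F, suMat t *ᵥ x = x + c • v) ∧
      (∀ x, hermForm 3 F q x v = 0 → suMat t *ᵥ x = x) := by
  have htt : ∀ x, suMat t *ᵥ (suMat t *ᵥ x) = x := fun x => by
    rw [← suMat_mulVec_mul, ht2, suMat_one, one_mulVec]
  have hfix : ∀ x, suMat t *ᵥ (suMat t *ᵥ x - x) = suMat t *ᵥ x - x := fun x => by
    rw [mulVec_sub, htt]
    funext i
    simp only [Pi.sub_apply]
    rw [CharTwo.sub_eq_add, CharTwo.sub_eq_add, add_comm]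
  have horth : ∀ x y, suMat t *ᵥ y = y → hermForm 3 F q (suMat t *ᵥ x - x) y = 0 := fun x y hy => by
    rw [h_sub_left]
    conv_lhs => arg 1; rw [← hy, suMat_h]
    rw [sub_self]
  obtain ⟨x₀, hx₀⟩ : ∃ x₀, suMat t *ᵥ x₀ - x₀ ≠ 0 := by
    by_contra hn
    push Not at hn
    exact ht (suMat_ext fun x => by rw [suMat_one, one_mulVec]; exact sub_eq_zero.1 (hn x))
  set v := suMat t *ᵥ x₀ - x₀ with hv
  have hmul : ∀ x, ∃ c : F, suMat t *ᵥ x = x + c • v := fun x => by
    obtain ⟨c, hc⟩ := iso_prop hF hx₀ (horth x₀ v (hfix x₀))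
      (horth x _ (hfix x)) (horth x₀ _ (hfix x))
    exact ⟨c, by rw [← hc]; abel⟩
  refine ⟨v, x₀, hx₀, horth x₀ v (hfix x₀), rfl, hmul, fun x hx => ?_⟩
  obtain ⟨c, hc⟩ := hmul x
  suffices hc0 : c = 0 by rw [hc, hc0, zero_smul, add_zero]
  by_contra hc0
  refine hx₀ (eq_zero_of_h_left hF fun y => ?_)
  obtain ⟨d, hd⟩ := hmul y
  have h := suMat_h t x y
  rw [hc, hd, h_add_left, h_add_right hF, h_add_right hF, h_smul_left, h_smul_left,
    h_smul_right hF, h_smul_right hF, hx, horth x₀ v (hfix x₀)] at h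
  have : c * hermForm 3 F q v y = 0 := by linear_combination h
  exact (mul_eq_zero.1 this).resolve_left hc0

/-- Commuting involutions have the same centre: they fix the same hyperplane. -/
theorem centre_fix [CharP F 2] {t t' : SU 3 F q} {v : Fin 3 → F} (hv : v ≠ 0)
    (hvv : hermForm 3 F q v v = 0) {x₀ : Fin 3 → F} (hvx : v = suMat t *ᵥ x₀ - x₀)
    (hmul : ∀ x, ∃ c : F, suMat t *ᵥ x = x + c • v)
    (ht' : t' * t' = 1) (hc : t * t' = t' * t) {x : Fin 3 → F}
    (hx : hermForm 3 F q x v = 0) : suMat t' *ᵥ x = x := by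
  by_cases h1 : t' = 1
  · rw [h1, suMat_one, one_mulVec]
  obtain ⟨v', x₁, hv', hvv', hvx', -, hfix'⟩ := exists_centre hF ht' h1
  have hti : suMat t' *ᵥ v = suMat t *ᵥ (suMat t' *ᵥ x₀) - suMat t' *ᵥ x₀ := by
    rw [hvx, mulVec_sub, ← suMat_mulVec_mul, ← suMat_mulVec_mul, hc]
  obtain ⟨c, hcv⟩ := hmul (suMat t' *ᵥ x₀)
  rw [hcv, add_sub_cancel_left] at hti
  have hc1 : c = 1 := by
    have h2 : suMat t' *ᵥ (suMat t' *ᵥ v) = v := by
      rw [← suMat_mulVec_mul, ht', suMat_one, one_mulVec]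
    rw [hti, mulVec_smul, hti, smul_smul] at h2
    have h3 : c * c = 1 := smul_left_injective F hv (h2.trans (one_smul F v).symm)
    have h4 : (c + 1) * (c + 1) = 0 := by
      linear_combination h3 + (c + 1) * CharTwo.two_eq_zero (R := F)
    exact CharTwo.add_eq_zero.1 (mul_self_eq_zero.1 h4)
  rw [hc1, one_smul] at hti
  have horth : hermForm 3 F q v' v = 0 := by
    rw [hvx', h_sub_left]
    conv_lhs => arg 1; rw [← hti, suMat_h]
    rw [sub_self]
  obtain ⟨d, hd⟩ := iso_prop hF hv hvv hvv' ((h_eq_zero_comm hF).1 horth)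
  refine hfix' x ?_
  rw [hd, h_smul_right hF, hx, mul_zero]

theorem stab_injective_card {f : Fin 3 → F} (hf : hermForm 3 F q f f = 1) (H : Subgroup (SU 3 F q))
    (e : SU 2 F q ≃* H) (hH : ∀ g ∈ H, suMat g *ᵥ f = f) :
    ∀ g, g ∈ H ↔ suMat g *ᵥ f = f := by
  classical
  obtain ⟨k, hk⟩ := exists_SU_of_sameGram hF (ι := Unit)
    (b := fun _ => (Pi.single 0 1 : Fin 3 → F)) (b' := fun _ => f)
    (fun c hc => funext fun u => by simpa [h_smul_left, h_single_single hF] using hc u)
    (fun _ _ => by rw [hf, h_single_single hF, if_pos rfl]) (by simp)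
  let S : Set (SU 3 F q) := {g | suMat g *ᵥ f = f}
  have hsub : (H : Set (SU 3 F q)) ⊆ S := hH
  have hmem : ∀ g ∈ S, ∃ s : SU 2 F q, k * liftSU s * k⁻¹ = g := fun g hg => by
    obtain ⟨s, hs⟩ := mem_range_liftSU hF (n := 2) (g := k⁻¹ * g * k) (by
      rw [suMat_mulVec_mul, suMat_mulVec_mul, hk (), hg, ← hk (), suMat_inv_mulVec])
    exact ⟨s, by rw [hs]; group⟩
  choose m hm using hmem
  have hle : S.ncard ≤ Nat.card (SU 2 F q) := by
    rw [← Nat.card_coe_set_eq]
    exact Nat.card_le_card_of_injective (fun g : S => m g.1 g.2)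
      (fun g g' h => Subtype.ext (by rw [← hm g.1 g.2, ← hm g'.1 g'.2]; simp only at h; rw [h]))
  have heq : (H : Set (SU 3 F q)) = S := by
    refine Set.eq_of_subset_of_ncard_le hsub ?_ (Set.toFinite _)
    rw [← Nat.card_coe_set_eq (H : Set (SU 3 F q))]
    calc S.ncard ≤ Nat.card (SU 2 F q) := hle
      _ = Nat.card H := Nat.card_congr e.toEquiv
  exact fun g => Set.ext_iff.1 heq g

/-- A subgroup of `SU_3` isomorphic to `SU_2` is the stabiliser of a vector of norm one. -/
theorem exists_stab_vec (H : Subgroup (SU 3 F q)) (he : Nonempty (SU 2 F q ≃* H)) :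
    ∃ f, hermForm 3 F q f f = 1 ∧ ∀ g, g ∈ H ↔ suMat g *ᵥ f = f := by
  classical
  obtain ⟨e⟩ := he
  suffices h : ∃ f, hermForm 3 F q f f = 1 ∧ ∀ g ∈ H, suMat g *ᵥ f = f by
    obtain ⟨f, hf, hH⟩ := h
    exact ⟨f, hf, stab_injective_card hF hf H e hH⟩
  let K : Subfield F := RingHom.eqLocusField (conjHom hF) (RingHom.id F)
  letI : Fintype K := Fintype.ofFinite K
  have hK : Fintype.card K = q := by
    rw [← Nat.card_eq_fintype_card]
    exact (Nat.card_congr (Equiv.subtypeEquivRight fun x => Iff.rfl)).trans (card_fixed hF)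
  obtain ⟨θ, -⟩ := exists_sl_model hF hK K.subtype
  obtain ⟨p, f₀, hp, hf₀, hchar, hqp⟩ := exists_prime_pow hF
  haveI := hchar
  haveI : Fact p.Prime := ⟨hp⟩
  haveI : CharP K p := K.subtype.charP K.subtype.injective p
  let ι : Matrix.SpecialLinearGroup (Fin 2) K →* SU 3 F q :=
    H.subtype.comp (θ.trans e).toMonoidHom
  have hιinj : Function.Injective ι := H.subtype_injective.comp (θ.trans e).injective
  have hιsurj : ∀ g ∈ H, ∃ s, ι s = g := fun g hg =>
    ⟨(θ.trans e).symm ⟨g, hg⟩, by simp [ι]⟩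
  have hpow : ∀ {i j : Fin 2} (h : i ≠ j) (a : K),
      (H55.xe h a : Matrix.SpecialLinearGroup (Fin 2) K) ^ p = 1 := fun h a => by
    rw [← H55.tv_eq_xe h a (H55.dot_smul_zero (H55.ev_dot_ev h) a)]
    exact H55.tv_pow_char _ _ _
  -- it is enough to fix a vector by the images of the transvections
  suffices h : ∃ f, hermForm 3 F q f f = 1 ∧ ∀ {i j : Fin 2} (h : i ≠ j) (a : K),
      suMat (ι (H55.xe h a)) *ᵥ f = f by
    obtain ⟨f, hf, hfix⟩ := h
    refine ⟨f, hf, fun g hg => ?_⟩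
    obtain ⟨s, rfl⟩ := hιsurj g hg
    clear hg
    have hs : s ∈ Subgroup.closure {s : H55.SLn 2 K | ∃ (i j : Fin 2) (h : i ≠ j) (a : K),
        H55.xe h a = s} := by rw [H55.closure_transvections]; trivial
    induction hs using Subgroup.closure_induction with
    | mem x hx => obtain ⟨i, j, h, a, rfl⟩ := hx; exact hfix h a
    | one => rw [map_one, suMat_one, one_mulVec]
    | mul x y _ _ hx hy =>
      rw [map_mul, suMat_mulVec_mul, hy, hx]
    | inv x _ hx => rw [map_inv]; exact suMat_inv_fix hx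
  rcases Nat.even_or_odd q with hev | hodd
  · -- even characteristic
    have hp2 : p = 2 := by
      rw [hqp, Nat.even_pow] at hev
      exact (hp.even_iff).1 hev.1
    subst hp2
    have hi : ∀ {i j : Fin 2} (h : i ≠ j) (a : K), ι (H55.xe h a) * ι (H55.xe h a) = 1 :=
      fun h a => by rw [← map_mul, ← pow_two, hpow, map_one]
    have hne : ∀ {i j : Fin 2} (h : i ≠ j), ι (H55.xe h (1 : K)) ≠ 1 := fun {i j} h e1 => by
      have := congrArg (fun s : H55.SLn 2 K => (s : Matrix (Fin 2) (Fin 2) K) i j)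
        (hιinj (e1.trans ι.map_one.symm))
      simp [Matrix.SpecialLinearGroup.transvection_coe, Matrix.one_apply_ne h] at this
    have h01 : (0 : Fin 2) ≠ 1 := by decide
    obtain ⟨v, x₀, hv, hvv, hvx, hmul, -⟩ := exists_centre hF (hi h01 1) (hne h01)
    obtain ⟨w, x₁, hw, hww, hwx, hmul', -⟩ := exists_centre hF (hi h01.symm 1) (hne h01.symm)
    have hvw : hermForm 3 F q v w ≠ 0 := by
      intro h
      obtain ⟨c, hc⟩ := iso_prop hF hv hvv hww h
      have hcomm : ι (H55.xe h01 1) * ι (H55.xe h01.symm 1) =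
          ι (H55.xe h01.symm 1) * ι (H55.xe h01 1) := suMat_ext fun x => by
        obtain ⟨a, ha⟩ := hmul x
        obtain ⟨b, hb⟩ := hmul' x
        have hfv : suMat (ι (H55.xe h01 1)) *ᵥ v = v :=
          centre_fix hF hv hvv hvx hmul (hi h01 1) rfl hvv
        have hfw : suMat (ι (H55.xe h01.symm 1)) *ᵥ w = w :=
          centre_fix hF hw hww hwx hmul' (hi h01.symm 1) rfl hww
        have hfw' : suMat (ι (H55.xe h01.symm 1)) *ᵥ v = v := by
          have hc0 : c ≠ 0 := fun e => hw (by rw [hc, e, zero_smul])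
          rw [hc, mulVec_smul] at hfw
          exact smul_right_injective _ hc0 hfw
        rw [suMat_mulVec_mul, suMat_mulVec_mul, hb, ha, mulVec_add, mulVec_add, mulVec_smul,
          mulVec_smul, hc, mulVec_smul, hfv, hfw', ha, hb, hc]
        abel
      rw [← map_mul, ← map_mul] at hcomm
      have := congrArg (fun s : H55.SLn 2 K => (s : Matrix (Fin 2) (Fin 2) K) 0 0) (hιinj hcomm)
      simp [Matrix.SpecialLinearGroup.transvection_coe, Matrix.mul_apply, Fin.sum_univ_two] at this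
    obtain ⟨f, hf, hfv, hfw⟩ := exists_norm_one_perp_hyp hF le_rfl
      (e := v) (f := (hermForm 3 F q v w ^ q)⁻¹ • w)
      ⟨hvv, by rw [h_smul_left, h_smul_right hF, hww, mul_zero, mul_zero],
        by rw [h_smul_right hF, inv_pow, pow_q_pow_q hF, inv_mul_cancel₀ hvw]⟩
    rw [h_smul_right hF, mul_eq_zero, or_iff_right (pow_ne_zero _ (inv_ne_zero (pow_ne_zero _ hvw)))]
      at hfw
    refine ⟨f, hf, fun {i j} h a => ?_⟩
    fin_cases i <;> fin_cases j
    · exact absurd rfl h
    · refine centre_fix hF hv hvv hvx hmul (hi h a) ?_ hfv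
      rw [← map_mul, ← map_mul, ← H55.xe_add, ← H55.xe_add, add_comm]
    · refine centre_fix hF hw hww hwx hmul' (hi h a) ?_ hfw
      rw [← map_mul, ← map_mul, ← H55.xe_add, ← H55.xe_add, add_comm]
    · exact absurd rfl h
  · -- odd characteristic
    have h2 := two_ne_zero_of_odd hF hodd
    obtain ⟨m, hm, hm1, hmc⟩ : ∃ m : SU 2 F q, m * m = 1 ∧ m ≠ 1 ∧ ∀ x, m * x = x * m := by
      refine ⟨mkSU (-1) (fun u v => ?_) ?_, ?_, ?_, fun x => ?_⟩
      · rw [neg_mulVec, neg_mulVec, one_mulVec, one_mulVec, h_neg_left, h_neg_right hF, neg_neg]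
      · rw [det_neg, det_one, Fintype.card_fin]; ring
      · exact SU_ext (show (-1 : Matrix (Fin 2) (Fin 2) F) * -1 = 1 by simp)
      · intro e1
        have : (-1 : Matrix (Fin 2) (Fin 2) F) 0 0 = (1 : Matrix (Fin 2) (Fin 2) F) 0 0 :=
          congrArg (fun x : SU 2 F q => suMat x 0 0) e1
        simp at this
        exact h2 (by linear_combination -this)
      · exact SU_ext (show (-1 : Matrix (Fin 2) (Fin 2) F) * suMat x = suMat x * -1 by simp)
    set t : SU 3 F q := (e m : SU 3 F q) with ht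
    obtain ⟨z, hz, htz⟩ := exists_su3inv hF hodd t
      (fun e1 => hm1 (e.map_eq_one_iff.1 (Subtype.ext e1)))
      (by rw [ht, ← Subgroup.coe_mul, ← map_mul, hm, map_one, Subgroup.coe_one])
    refine ⟨z, hz, fun {i j} h a => ?_⟩
    set g := ι (H55.xe h a) with hg
    have hcomm : t * g = g * t := by
      show (e m : SU 3 F q) * (e (θ (H55.xe h a)) : SU 3 F q) = _
      rw [← Subgroup.coe_mul, ← map_mul, hmc, map_mul, Subgroup.coe_mul]
      rfl
    have hy : suMat g *ᵥ z = hermForm 3 F q (suMat g *ᵥ z) z • z := by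
      have h1 := congrArg (fun x => suMat x *ᵥ z) hcomm
      simp only [suMat_mulVec_mul] at h1
      rw [htz, su3inv_fix, su3inv_mulVec] at h1
      have h3 : (2 : F) • (suMat g *ᵥ z) = (2 * hermForm 3 F q (suMat g *ᵥ z) z) • z := by
        rw [two_smul]
        conv_lhs => arg 1; rw [← h1]
        abel
      rw [← smul_smul] at h3
      exact smul_right_injective _ h2 h3
    set c := hermForm 3 F q (suMat g *ᵥ z) z
    have hk : ∀ k : ℕ, suMat (g ^ k) *ᵥ z = c ^ k • z := by
      intro k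
      induction k with
      | zero => rw [pow_zero, pow_zero, suMat_one, one_mulVec, one_smul]
      | succ k ih =>
        rw [pow_succ', suMat_mulVec_mul, ih, mulVec_smul, hy, smul_smul, pow_succ]
    have hz0 : z ≠ 0 := fun e1 => by simp [e1, h_zero_left] at hz
    have h3 := hk p
    rw [hg, ← map_pow, hpow, map_one, suMat_one, one_mulVec] at h3
    rw [hy, H55.eq_one_of_pow_char (smul_left_injective F hz0 (h3.symm.trans (one_smul F z).symm)),
      one_smul]

end H70.Phan
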