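import Cfsg.Agent.H70.Phan.SUThreeStab
import Cfsg.Agent.H50.PointStab

/-!
Commuting torus elements of two point stabilisers in `SU_3`.
-/

set_option autoImplicit false
set_option linter.unusedSectionVars false

namespace H70.Phan

open Matrix Cfsg H50

variable {F : Type*} [Field F] [Fintype F] {q : ℕ} (hF : Fintype.card F = q ^ 2)
include hF

theorem su2_no_fix {s : SU 2 F q} (hs : orderOf s = q + 1) {v : Fin 2 → F}
    (hv : suMat s *ᵥ v = v) : v = 0 := by
  by_contra hv0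
  obtain ⟨p, f, hp, hf, hc, hqp⟩ := exists_prime_pow hF
  haveI := hc
  haveI : Fact p.Prime := ⟨hp⟩
  have hdet : (suMat s - 1).det = 0 :=
    Matrix.exists_mulVec_eq_zero_iff.1 ⟨v, hv0, by rw [sub_mulVec, hv, one_mulVec, sub_self]⟩
  have hd : (suMat s).det = 1 := s.1.2
  rw [Matrix.det_fin_two] at hd hdet
  simp at hdet
  have hsq : (suMat s - 1) * (suMat s - 1) = 0 := by
    ext i j
    fin_cases i <;> fin_cases j <;> simp [Matrix.mul_apply, Fin.sum_univ_two]
    · linear_combination (suMat s 0 0 - 1) * (hd - hdet) - hdet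
    · linear_combination (suMat s 0 1) * (hd - hdet)
    · linear_combination (suMat s 1 0) * (hd - hdet)
    · linear_combination (suMat s 1 1 - 1) * (hd - hdet) - hdet
  have hpow : suMat (s ^ p) = 1 := by
    have h1 : (suMat s - 1) ^ p = 0 := pow_eq_zero_of_le hp.two_le (by rw [pow_two, hsq])
    rw [sub_pow_char_of_commute p (Commute.one_right _), one_pow, sub_eq_zero] at h1
    rw [← h1]
    exact map_pow ((Matrix.SpecialLinearGroup.toGL.comp (SU 2 F q).subtype) |> fun φ =>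
      (Units.coeHom (Matrix (Fin 2) (Fin 2) F)).comp φ) s p
  have h2 : q + 1 ∣ p := hs ▸ orderOf_dvd_of_pow_eq_one (SU_ext hpow)
  have hpq : p ≤ q := by rw [hqp]; exact Nat.le_self_pow (by omega) p
  exact absurd (Nat.le_of_dvd hp.pos h2) (by omega)

/-- The fixed space of a torus element of a point stabiliser. -/
theorem fix_eq {f : Fin 3 → F} (hf : hermForm 3 F q f f = 1) {d : SU 3 F q}
    (hd : suMat d *ᵥ f = f) (ho : orderOf d = q + 1) {w : Fin 3 → F} (hw : suMat d *ᵥ w = w) :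
    ∃ c : F, w = c • f := by
  obtain ⟨k, hk⟩ := exists_SU_of_sameGram hF (ι := Unit)
    (b := fun _ => (Pi.single 0 1 : Fin 3 → F)) (b' := fun _ => f)
    (fun c hc => funext fun u => by simpa [h_smul_left, h_single_single hF] using hc u)
    (fun _ _ => by rw [hf, h_single_single hF, if_pos rfl]) (by simp)
  obtain ⟨s, hs⟩ := mem_range_liftSU hF (n := 2) (g := k⁻¹ * d * k) (by
    rw [suMat_mulVec_mul, suMat_mulVec_mul, hk (), hd, ← hk (), suMat_inv_mulVec])
  have hos : orderOf s = q + 1 := by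
    rw [← orderOf_injective (liftSU : SU 2 F q →* SU 3 F q) PointStab.liftSU_injective s, hs, ← ho,
      show k⁻¹ * d * k = MulAut.conj k⁻¹ d by simp]
    exact orderOf_injective (MulAut.conj k⁻¹).toMonoidHom (MulAut.conj k⁻¹).injective d
  set w' := suMat k⁻¹ *ᵥ w with hw'
  have h1 : suMat (k⁻¹ * d * k) *ᵥ w' = w' := by
    rw [hw', suMat_mulVec_mul, suMat_mulVec_inv, suMat_mulVec_mul, hw]
  rw [← hs, ← Fin.cons_self_tail w', liftSU_mulVec] at h1
  have h2 := su2_no_fix hF hos (Fin.cons_right_injective (α := fun _ => F) _ h1)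
  refine ⟨w' 0, ?_⟩
  have h3 : w' = w' 0 • (Pi.single 0 1 : Fin 3 → F) := by
    funext i
    induction i using Fin.cases with
    | zero => simp
    | succ i => simpa [Fin.tail] using congrFun h2 i
  rw [← suMat_mulVec_inv k w, ← hw', h3, mulVec_smul, hk ()]
  simp

/-- Commuting torus elements of two point stabilisers: the points are proportional or orthogonal. -/
theorem orth_or_prop {f₁ f₂ : Fin 3 → F} (h1 : hermForm 3 F q f₁ f₁ = 1)
    (h2 : hermForm 3 F q f₂ f₂ = 1) {d₁ d₂ : SU 3 F q} (hd₁ : suMat d₁ *ᵥ f₁ = f₁)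
    (hd₂ : suMat d₂ *ᵥ f₂ = f₂) (o₁ : orderOf d₁ = q + 1) (o₂ : orderOf d₂ = q + 1)
    (hc : d₁ * d₂ = d₂ * d₁) :
    (∃ c : F, f₂ = c • f₁) ∨ hermForm 3 F q f₁ f₂ = 0 := by
  obtain ⟨c, hce⟩ := fix_eq hF h1 hd₁ o₁ (w := suMat d₂ *ᵥ f₁)
    (by rw [← suMat_mulVec_mul, hc, suMat_mulVec_mul, hd₁])
  have h3 := suMat_h d₂ f₁ f₂
  rw [hce, hd₂, h_smul_left] at h3
  by_cases h0 : hermForm 3 F q f₁ f₂ = 0
  · exact Or.inr h0
  have hc1 : c = 1 := mul_right_cancel₀ h0 (h3.trans (one_mul _).symm)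
  rw [hc1, one_smul] at hce
  obtain ⟨a, ha⟩ := fix_eq hF h2 hd₂ o₂ hce
  have ha0 : a ≠ 0 := fun e => by simp [ha, e, h_zero_left] at h1
  exact Or.inl ⟨a⁻¹, by rw [ha, smul_smul, inv_mul_cancel₀ ha0, one_smul]⟩

end H70.Phan
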