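import Cfsg.Agent.H70.Phan.SUTwo

/-!
An automorphism of `SU_2` under which the image of the diagonal torus is normalised by the diagonal
unitary matrices is a diagonal map composed with a field automorphism.
-/

set_option autoImplicit false
set_option linter.unusedSectionVars false

namespace H70.Phan

open Matrix Cfsg H50

variable {F : Type*} [Field F] [Fintype F] {q : ℕ}

/-- Rigidity of `SU_2` relative to its diagonal torus. -/
theorem aut_torus (hF : Fintype.card F = q ^ 2) (a : SU 2 F q ≃* SU 2 F q)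
    (hinv : ∀ b : F, b ^ (q + 1) = 1 → ∀ x, suMat x 0 1 = 0 → suMat x 1 0 = 0 →
      ∃ y, suMat y 0 1 = 0 ∧ suMat y 1 0 = 0 ∧
        suMat (a y) = diagonal ![b, 1] * suMat (a x) * diagonal ![b ^ q, 1]) :
    ∃ (u : F) (s : F ≃+* F), u ^ (q + 1) = 1 ∧
      ∀ x, suMat (a x) = diagonal ![u, 1] * (suMat x).map s * diagonal ![u ^ q, 1] := by
  classical
  have hq0 : q ≠ 0 := q_ne_zero hF
  obtain ⟨b₀, hb₀, hbq, hgen⟩ := exists_norm_gen hF
  have h10 : ∀ x : SU 2 F q, suMat x 0 1 = 0 → suMat x 1 0 = 0 := fun x h => by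
    rw [(su2_shape hF x).1, h, zero_pow hq0, neg_zero]
  -- products
  have m00 : ∀ x y : SU 2 F q, suMat (x * y) 0 0 =
      suMat x 0 0 * suMat y 0 0 + suMat x 0 1 * suMat y 1 0 := fun x y => by
    rw [suMat_mul, Matrix.mul_apply, Fin.sum_univ_two]
  have m01 : ∀ x y : SU 2 F q, suMat (x * y) 0 1 =
      suMat x 0 0 * suMat y 0 1 + suMat x 0 1 * suMat y 1 1 := fun x y => by
    rw [suMat_mul, Matrix.mul_apply, Fin.sum_univ_two]
  -- diagonal elements go to diagonal elements
  have hd : ∀ x, suMat x 0 1 = 0 → suMat (a x) 0 1 = 0 := by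
    intro x hx
    obtain ⟨y, hy, -, e⟩ := hinv b₀ hb₀ x hx (h10 x hx)
    have hc : x * y = y * x := su2_ext hF
      (by rw [m00, m00, hx, hy, h10 x hx, h10 y hy]; ring) (by rw [m01, m01, hx, hy]; ring)
    have hc2 : suMat (a x) * suMat (a y) = suMat (a y) * suMat (a x) := by
      rw [← suMat_mul, ← suMat_mul, ← map_mul, ← map_mul, hc]
    have h00 := congrFun (congrFun hc2 0) 0
    rw [e] at h00
    simp [Matrix.mul_apply, Fin.sum_univ_two, Matrix.diagonal] at h00
    set A := suMat (a x) 0 0 with hA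
    set B := suMat (a x) 0 1 with hB
    rw [(su2_shape hF (a x)).1, ← hB] at h00
    have hbb : b₀ * b₀ ^ q = 1 := by rw [← pow_succ', hb₀]
    have h2 : (b₀ - b₀ ^ q) * (B * B ^ q) = 0 := by linear_combination h00
    rcases mul_eq_zero.1 h2 with h3 | h3
    · exact absurd (sub_eq_zero.1 h3).symm hbq
    · rcases mul_eq_zero.1 h3 with h4 | h4
      · exact h4
      · exact eq_zero_of_pow_eq_zero h4
  -- torus elements
  have htor : ∀ c : F, c ^ (q + 1) = 1 →
      ∃ x : SU 2 F q, suMat x 0 0 = c ∧ suMat x 0 1 = 0 := fun c hc =>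
    exists_mk2 hF (by rw [hc, zero_pow (by omega), add_zero])
  obtain ⟨t, ht0, ht1⟩ := htor b₀ hb₀
  set τ := suMat (a t) 0 0 with hτ
  have hat : suMat (a t) 0 1 = 0 := hd t ht1
  have hτn : τ ^ (q + 1) = 1 := by
    have := su2_norm' hF (a t)
    rwa [hat, zero_pow (by omega), add_zero] at this
  have hbb : b₀ * b₀ ^ q = 1 := by rw [← pow_succ', hb₀]
  have hττ : τ * τ ^ q = 1 := by rw [← pow_succ', hτn]
  have hτq : τ ^ q ≠ τ := by
    intro h
    rw [h] at hττ
    have h2 : a (t * t) = 1 := su2_ext hF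
      (by rw [map_mul, m00, hat, ← hτ, suMat_one, one_apply_eq]; linear_combination hττ)
      (by rw [map_mul, m01, hat, suMat_one, one_apply_ne (by decide)]; ring)
    have h3 := (m00 t t)
    rw [a.map_eq_one_iff.1 h2, suMat_one, one_apply_eq, ht0, ht1, zero_mul, add_zero] at h3
    exact hbq (mul_left_cancel₀ (fun e => by simp [e] at hb₀) (hbb.trans h3))
  -- the Weyl element
  obtain ⟨w, hw0, hw1⟩ : ∃ x : SU 2 F q, suMat x 0 0 = 0 ∧ suMat x 0 1 = 1 :=
    exists_mk2 hF (by rw [zero_pow (by omega), one_pow, zero_add])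
  have hwt : t * (w * t) = w := su2_ext hF
    (by rw [m00, m00, ht0, ht1, hw0, hw1, h10 t ht1]; ring)
    (by rw [m01, m01, ht0, ht1, hw0, hw1, (su2_shape hF t).2, ht0]; linear_combination hbb)
  have haw : suMat (a w) 0 0 = 0 := by
    have h := congrArg (fun z => suMat (a z) 0 0) hwt
    simp only [map_mul, m00, hat, h10 _ hat, ← hτ] at h
    have h2 : suMat (a w) 0 0 * (τ * τ - τ * τ ^ q) = 0 := by
      rw [hττ]
      linear_combination h
    rcases mul_eq_zero.1 h2 with h3 | h3
    · exact h3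
    · rw [← mul_sub, mul_eq_zero] at h3
      rcases h3 with h3 | h3
      · simp [h3] at hτn
      · exact absurd (sub_eq_zero.1 h3).symm hτq
  set u := suMat (a w) 0 1 with hu'
  have hu : u ^ (q + 1) = 1 := by
    have := su2_norm' hF (a w)
    rwa [haw, zero_pow (by omega), zero_add] at this
  -- the field automorphism
  obtain ⟨s₀, hs₀⟩ := exists_trace_map hF a
  have htr : ∀ x : SU 2 F q, (suMat x).trace = suMat x 0 0 + suMat x 0 0 ^ q := fun x => by
    rw [Matrix.trace_fin_two, (su2_shape hF x).2]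
  obtain ⟨s, hst, hs⟩ : ∃ s : F ≃+* F, τ = s b₀ ∧
      ∀ x, (suMat (a x)).trace = s (suMat x).trace := by
    have hsum := hs₀ t
    rw [htr, htr, ht0, ← hτ, map_add, map_pow] at hsum
    have hsn : s₀ b₀ * s₀ b₀ ^ q = 1 := by rw [← map_pow, ← map_mul, hbb, map_one]
    have h2 : (τ - s₀ b₀) * (τ - s₀ b₀ ^ q) = 0 := by
      linear_combination τ * hsum + hsn - hττ
    rcases mul_eq_zero.1 h2 with h3 | h3
    · exact ⟨s₀, sub_eq_zero.1 h3, hs₀⟩
    · let e : F ≃+* F := RingEquiv.ofBijective (conjHom hF)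
        ⟨(conjHom hF).injective, Finite.surjective_of_injective (conjHom hF).injective⟩
      refine ⟨s₀.trans e, sub_eq_zero.1 h3, fun x => ?_⟩
      show _ = (s₀ (suMat x).trace) ^ q
      rw [← hs₀ x, htr (a x), add_pow_q hF, pow_q_pow_q hF, add_comm]
  -- first coordinates
  have hα : ∀ x, suMat (a x) 0 0 = s (suMat x 0 0) := by
    intro x
    set e := suMat (a x) 0 0 - s (suMat x 0 0) with he
    have key : ∀ z : SU 2 F q, suMat z 0 1 = 0 → suMat (a z) 0 0 = s (suMat z 0 0) →
        e * s (suMat z 0 0) + (e * s (suMat z 0 0)) ^ q = 0 := by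
      intro z hz hz'
      have h := hs (x * z)
      rw [map_mul, htr, htr, m00, m00, h10 z hz, h10 _ (hd z hz), hz', map_add, map_pow] at h
      simp only [mul_zero, add_zero, map_mul] at h
      rw [he, sub_mul, sub_pow_q hF]
      linear_combination h
    have k1 := key 1 (by rw [suMat_one, one_apply_ne (by decide)])
      (by rw [map_one, suMat_one, one_apply_eq, map_one])
    have k2 := key t ht1 (by rw [← hτ, ht0, hst])
    rw [suMat_one, one_apply_eq, map_one, mul_one] at k1
    rw [ht0, ← hst, mul_pow] at k2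
    have h2 : e * (τ - τ ^ q) = 0 := by linear_combination k2 - τ ^ q * k1
    rcases mul_eq_zero.1 h2 with h3 | h3
    · exact sub_eq_zero.1 h3
    · exact absurd (sub_eq_zero.1 h3).symm hτq
  have huu : u * u ^ q = 1 := by rw [← pow_succ', hu]
  have hβ : ∀ x, suMat (a x) 0 1 = u * s (suMat x 0 1) := by
    intro x
    have h := hα (x * w)
    rw [map_mul, m00, m00, haw, hw0, (su2_shape hF (a w)).1, (su2_shape hF w).1, ← hu', hw1,
      one_pow] at h
    simp only [mul_zero, zero_add, mul_neg, mul_one, map_neg] at h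
    linear_combination (-u) * h - suMat (a x) 0 1 * huu
  refine ⟨u, s, hu, fun x => ?_⟩
  ext i j
  fin_cases i <;> fin_cases j <;>
    simp [Matrix.mul_apply, Fin.sum_univ_two, Matrix.diagonal, Matrix.map_apply, hα, hβ,
      (su2_shape hF (a x)).1, (su2_shape hF (a x)).2, (su2_shape hF x).1, (su2_shape hF x).2,
      map_neg, map_pow, mul_pow]
  all_goals first
    | ring1
    | linear_combination (s (suMat x 0 0)) * huu
    | linear_combination -(s (suMat x 0 0)) * huu

end H70.Phan
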