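import Cfsg.Agent.S0278
import Cfsg.Agent.H37.Card
import Cfsg.Agent.H50.Hyperbolic
import Cfsg.Agent.H50.DetCentralizer
import Cfsg.Agent.H50.Transvection

/-!
`SU_2` as a conjugate of `SL_2` over the fixed field, recording traces (the construction of `S0281`).
-/

set_option autoImplicit false

namespace H70.Phan

open Matrix Cfsg H50

/-- A trace-compatible isomorphism of `SL_2(q)` with `SU_2(q)`. -/
theorem exists_sl_model {F K : Type*} [Field F] [Fintype F] [Field K] [Fintype K] {q : ℕ}
    (hF : Fintype.card F = q ^ 2) (hK : Fintype.card K = q) (φ : K →+* F) :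
    ∃ θ : Matrix.SpecialLinearGroup (Fin 2) K ≃* Cfsg.SU 2 F q, ∀ g,
      (suMat (θ g)).trace = φ (g : Matrix (Fin 2) (Fin 2) K).trace := by
  classical
  have hφq : ∀ x, φ x ^ q = φ x := fun x => by rw [← map_pow, ← hK, FiniteField.pow_card]
  obtain ⟨e, he0, hee⟩ := H50.exists_isotropic (n := 2) hF le_rfl
  obtain ⟨f, hef⟩ := H50.exists_hyp_partner hF he0 hee
  obtain ⟨δ, hδ0, hδ⟩ := H50.exists_trace_zero_ne_zero hF
  have hδq : δ ^ q = -δ := by linear_combination hδ
  let P : Matrix (Fin 2) (Fin 2) F := Matrix.of fun k j => ![e, δ • f] j k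
  let J : Matrix (Fin 2) (Fin 2) F := !![0, 1; -1, 0]
  have hP : H51.adj hF P * P = δ • J := by
    ext i j
    have hij : (H51.adj hF P * P) i j = Cfsg.hermForm 2 F q (![e, δ • f] j) (![e, δ • f] i) := by
      simp only [Matrix.mul_apply, H51.adj_apply, P, Matrix.of_apply, Cfsg.hermForm]
      exact Finset.sum_congr rfl fun k _ => mul_comm _ _
    rw [hij]
    fin_cases i <;> fin_cases j <;>
      simp [J, H50.h_smul_left, H50.h_smul_right hF, hef.1, hef.2.1, hef.2.2,
        (hef.symm hF).2.2, hδq]
  have hPd : P.det ≠ 0 := by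
    intro h
    have := congrArg Matrix.det hP
    rw [Matrix.det_mul, h, mul_zero, Matrix.det_fin_two] at this
    simp [J] at this
    exact hδ0 this
  let Q : GL (Fin 2) F := Matrix.GeneralLinearGroup.mkOfDetNeZero P hPd
  set P' : Matrix (Fin 2) (Fin 2) F := ((Q⁻¹ : GL (Fin 2) F) : Matrix (Fin 2) (Fin 2) F)
  have hPP' : P * P' = 1 := Units.mul_inv Q
  have hP'P : P' * P = 1 := Units.inv_mul Q
  have hreal : ∀ g : Matrix.SpecialLinearGroup (Fin 2) K,
      H51.adj hF ((g : Matrix (Fin 2) (Fin 2) K).map φ) * (δ • J) * (g : Matrix (Fin 2) (Fin 2) K).map φ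
        = δ • J := by
    intro g
    have hd : φ (g.1 0 0) * φ (g.1 1 1) - φ (g.1 0 1) * φ (g.1 1 0) = 1 := by
      rw [← map_mul, ← map_mul, ← map_sub, ← Matrix.det_fin_two, g.2, map_one]
    ext i j
    fin_cases i <;> fin_cases j <;>
      simp [J, Matrix.mul_apply, Fin.sum_univ_two, hφq]
    all_goals first
      | ring1
      | linear_combination δ * hd
      | linear_combination -δ * hd
  let Ψ : Matrix.SpecialLinearGroup (Fin 2) K →* Cfsg.SU 2 F q :=
    { toFun := fun g => H50.mkSU (P * (g : Matrix (Fin 2) (Fin 2) K).map φ * P')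
        (fun a b => by
          rw [H50.h_mulVec_left hF, Matrix.mulVec_mulVec]
          have : H51.adj hF (P * (g : Matrix (Fin 2) (Fin 2) K).map φ * P') *
              (P * (g : Matrix (Fin 2) (Fin 2) K).map φ * P') = 1 := by
            calc H51.adj hF (P * (g : Matrix (Fin 2) (Fin 2) K).map φ * P') *
                  (P * (g : Matrix (Fin 2) (Fin 2) K).map φ * P')
                = H51.adj hF P' * (H51.adj hF ((g : Matrix (Fin 2) (Fin 2) K).map φ) *
                    (H51.adj hF P * P) * (g : Matrix (Fin 2) (Fin 2) K).map φ) * P' := by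
                  simp only [H51.adj_mul, mul_assoc]
              _ = H51.adj hF P' * (H51.adj hF P * P) * P' := by rw [hP, hreal]
              _ = H51.adj hF (P * P') * (P * P') := by simp only [H51.adj_mul, mul_assoc]
              _ = 1 := by rw [hPP', H51.adj_one, one_mul]
          rw [this, Matrix.one_mulVec])
        (by
          rw [Matrix.det_mul, Matrix.det_mul, mul_right_comm, ← Matrix.det_mul, hPP', Matrix.det_one,
            one_mul, ← RingHom.mapMatrix_apply, ← RingHom.map_det, g.2, map_one])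
      map_one' := by
        apply Subtype.ext
        apply Subtype.ext
        show P * (1 : Matrix (Fin 2) (Fin 2) K).map φ * P' = 1
        rw [Matrix.map_one _ (map_zero φ) (map_one φ), mul_one, hPP']
      map_mul' := fun g g' => by
        apply Subtype.ext
        apply Subtype.ext
        show P * ((g : Matrix (Fin 2) (Fin 2) K) * g').map φ * P' = (P * _ * P') * (P * _ * P')
        rw [Matrix.map_mul]
        calc P * ((g : Matrix (Fin 2) (Fin 2) K).map φ * (g' : Matrix (Fin 2) (Fin 2) K).map φ) * P'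
            = P * (g : Matrix (Fin 2) (Fin 2) K).map φ * (P' * P) *
              (g' : Matrix (Fin 2) (Fin 2) K).map φ * P' := by rw [hP'P]; simp only [mul_one, mul_assoc]
          _ = _ := by simp only [mul_assoc] }
  have hinj : Function.Injective Ψ := by
    intro g g' h
    have h1 : P * (g : Matrix (Fin 2) (Fin 2) K).map φ * P' =
        P * (g' : Matrix (Fin 2) (Fin 2) K).map φ * P' :=
      congrArg (fun x : Cfsg.SU 2 F q =>
        ((x : Matrix.SpecialLinearGroup (Fin 2) F) : Matrix (Fin 2) (Fin 2) F)) h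
    have h2 := congrArg (fun X => P' * X * P) h1
    simp only [← mul_assoc, hP'P, one_mul] at h2
    simp only [mul_assoc, hP'P, mul_one] at h2
    exact Subtype.ext (Matrix.map_injective φ.injective h2)
  have hsl := H37.card_SL_fin (F := K) 2 (by norm_num)
  have hsu := Cfsg.Agent.S0278.result hF 2 (by norm_num)
  rw [Nat.card_eq_fintype_card (α := K), hK, Fin.prod_univ_two] at hsl
  simp [Finset.prod_range_succ, -Nat.card_eq_fintype_card] at hsu hsl
  have hq : 2 ≤ q := H50.two_le hF
  haveI : Finite (Cfsg.SU 2 F q) := inferInstance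
  have hc : Nat.card (Matrix.SpecialLinearGroup (Fin 2) K) = Nat.card (Cfsg.SU 2 F q) := by
    obtain ⟨k, rfl⟩ : ∃ k, q = k + 2 := ⟨q - 2, by omega⟩
    generalize Nat.card (Matrix.SpecialLinearGroup (Fin 2) K) = a at hsl
    generalize Nat.card (Cfsg.SU 2 F (k + 2)) = b at hsu
    have e1 : (k + 2) ^ 2 - 1 = (k + 1) * (k + 3) := by
      rw [show (k + 2) ^ 2 = (k + 1) * (k + 3) + 1 by ring]; simp
    have e2 : (k + 2) ^ 2 - (k + 2) = (k + 1) * (k + 2) := by
      rw [show (k + 2) ^ 2 = (k + 1) * (k + 2) + (k + 2) by ring]; simp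
    rw [e1, e2, show k + 2 - 1 = k + 1 from rfl] at hsl
    rw [e1] at hsu
    have hb : (k + 3) * b = (k + 3) * ((k + 1) * (k + 2) * (k + 3)) := by linear_combination hsu
    have ha : (k + 1) * a = (k + 1) * ((k + 1) * (k + 2) * (k + 3)) := by linear_combination hsl
    rw [Nat.eq_of_mul_eq_mul_left (by omega) ha, Nat.eq_of_mul_eq_mul_left (by omega) hb]
  refine ⟨MulEquiv.ofBijective Ψ ((Nat.bijective_iff_injective_and_card _).2 ⟨hinj, hc⟩), fun g => ?_⟩
  show (P * (g : Matrix (Fin 2) (Fin 2) K).map φ * P').trace = _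
  rw [Matrix.trace_mul_comm, ← mul_assoc, hP'P, one_mul, AddMonoidHom.map_trace φ]

end H70.Phan
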