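import Cfsg.Agent.H41.Phan.Emb
import Cfsg.Agent.H70.Phan.SLModel
import Cfsg.Agent.H50.SCFour
import Cfsg.Agent.H50.Count

/-!
Preliminaries for unitary groups over the field with nine elements: generation of pair windows,
centralisers in two dimensions, orthonormal eigenframes of unitary involutions.
-/

set_option autoImplicit false
set_option linter.unusedSectionVars false

namespace H70.Phan.Nine

open Matrix Cfsg H50 H37 H69.SUW H41.Phan

universe u

/-- The diagonal sign matrix which is `-1` on `S`. -/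
def sgn (F : Type*) [Field F] {n : ℕ} (S : Finset (Fin n)) : Matrix (Fin n) (Fin n) F :=
  diagonal fun i => if i ∈ S then -1 else 1

/-- Elements of order dividing three. -/
def cubes {G : Type*} [Group G] (H : Subgroup G) : Set G := {g | g ^ 3 = 1 ∧ g ∈ H}

theorem commute_trans_two {F : Type*} [Field F] {a b c : Matrix (Fin 2) (Fin 2) F}
    (hac : a * c = c * a) (hbc : b * c = c * b)
    (hc : ¬ (c 0 1 = 0 ∧ c 1 0 = 0 ∧ c 0 0 = c 1 1)) : a * b = b * a := by
  have rep : ∀ x : Matrix (Fin 2) (Fin 2) F, x * c = c * x →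
      ∃ α β : F, x = α • (1 : Matrix (Fin 2) (Fin 2) F) + β • c := by
    intro x hx
    have A := fun i j => congrFun (congrFun hx i) j
    simp only [mul_apply, Fin.sum_univ_two] at A
    have a1 := A 0 0
    have a2 := A 0 1
    have a3 := A 1 0
    by_cases h2 : c 1 0 = 0
    · by_cases h1 : c 0 1 = 0
      · have h3 : c 0 0 - c 1 1 ≠ 0 := fun e => hc ⟨h1, h2, sub_eq_zero.1 e⟩
        have z1 : (c 0 0 - c 1 1) * x 0 1 = 0 := by
          linear_combination -a2 + (x 0 0 - x 1 1) * h1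
        have z2 : (c 0 0 - c 1 1) * x 1 0 = 0 := by
          linear_combination a3 + (x 0 0 - x 1 1) * h2
        simp only [mul_eq_zero, h3, false_or] at z1 z2
        set β := (x 0 0 - x 1 1) / (c 0 0 - c 1 1) with hβ
        have hb : β * (c 0 0 - c 1 1) = x 0 0 - x 1 1 := div_mul_cancel₀ _ h3
        refine ⟨x 0 0 - β * c 0 0, β, Matrix.ext (Fin.forall_fin_two.2
          ⟨Fin.forall_fin_two.2 ⟨?_, ?_⟩, Fin.forall_fin_two.2 ⟨?_, ?_⟩⟩)⟩ <;>
          simp [z1, z2, h1, h2]
        linear_combination hb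
      · set β := x 0 1 / c 0 1 with hβ
        have hb : β * c 0 1 = x 0 1 := div_mul_cancel₀ _ h1
        refine ⟨x 0 0 - β * c 0 0, β, Matrix.ext (Fin.forall_fin_two.2
          ⟨Fin.forall_fin_two.2 ⟨?_, ?_⟩, Fin.forall_fin_two.2 ⟨?_, ?_⟩⟩)⟩ <;>
          simp [h2]
        · linear_combination -hb
        · exact mul_left_cancel₀ h1 (by linear_combination -a1 + x 0 1 * h2)
        · refine mul_left_cancel₀ h1 ?_
          linear_combination (c 0 0 - c 1 1) * hb - a2
    · set β := x 1 0 / c 1 0 with hβ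
      have hb : β * c 1 0 = x 1 0 := div_mul_cancel₀ _ h2
      refine ⟨x 0 0 - β * c 0 0, β, Matrix.ext (Fin.forall_fin_two.2
        ⟨Fin.forall_fin_two.2 ⟨?_, ?_⟩, Fin.forall_fin_two.2 ⟨?_, ?_⟩⟩)⟩ <;> simp
      · exact mul_left_cancel₀ h2 (by linear_combination a1 - c 0 1 * hb)
      · linear_combination -hb
      · refine mul_left_cancel₀ h2 ?_
        linear_combination (c 0 0 - c 1 1) * hb + a3
  obtain ⟨α, β, rfl⟩ := rep a hac
  obtain ⟨α', β', rfl⟩ := rep b hbc
  simp only [add_mul, mul_add, smul_mul_assoc, mul_smul_comm, one_mul, mul_one, smul_smul]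
  module

variable {F : Type u} [Field F] {n m : ℕ} [Fintype F] (hF : Fintype.card F = 3 ^ 2)
include hF

theorem three_zero : (3 : F) = 0 := by
  have h : (Fintype.card F : F) = 0 := Nat.cast_card_eq_zero F
  rw [hF, Nat.cast_pow] at h
  exact_mod_cast (pow_eq_zero_iff (by norm_num)).1 h

theorem charThree : CharP F 3 :=
  haveI : Fact (Nat.Prime 3) := ⟨Nat.prime_three⟩
  (CharP.charP_iff_prime_eq_zero Nat.prime_three).2 (by exact_mod_cast three_zero hF)

theorem two_ne : (2 : F) ≠ 0 := fun h =>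
  one_ne_zero (show (1 : F) = 0 by linear_combination three_zero hF - h)

theorem cube_one {x : F} (h : x ^ 3 = 1) : x = 1 := by
  have h2 : (x - 1) ^ 3 = 0 := by linear_combination h + (-x ^ 2 + x) * three_zero hF
  exact sub_eq_zero.1 ((pow_eq_zero_iff (by norm_num)).1 h2)

theorem exists_i : ∃ i : F, i ^ 2 = -1 ∧ i ^ 4 = 1 ∧ i ^ 3 = -i ∧ i ≠ 0 ∧ i ≠ -i := by
  obtain ⟨b, hb⟩ := exists_norm_eq hF (c := (-1 : F)) (by norm_num)
  have h : (b ^ 2) ^ 2 = -1 := by rw [← pow_mul]; exact hb
  have h0 : b ^ 2 ≠ 0 := fun e => by rw [e] at h; simp at h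
  refine ⟨b ^ 2, h, by linear_combination ((b ^ 2) ^ 2 - 1) * h, by linear_combination b ^ 2 * h,
    h0, fun e => ?_⟩
  have h2 : (2 : F) * b ^ 2 = 0 := by linear_combination e
  exact h0 ((mul_eq_zero.1 h2).resolve_left (two_ne hF))

theorem su_two_gen : Subgroup.closure {g : SU 2 F 3 | g ^ 3 = 1} = ⊤ := by
  haveI := charThree hF
  haveI : Fact (Nat.Prime 3) := ⟨Nat.prime_three⟩
  obtain ⟨θ, -⟩ := exists_sl_model (K := ZMod 3) hF (ZMod.card 3) (ZMod.castHom dvd_rfl F)
  rw [← Subgroup.map_top_of_surjective θ.toMonoidHom θ.surjective,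
    ← H37.closure_transvection_eq_top, MonoidHom.map_closure]
  refine le_antisymm ?_ (Subgroup.closure_mono ?_)
  · rw [← MonoidHom.map_closure, H37.closure_transvection_eq_top,
      Subgroup.map_top_of_surjective θ.toMonoidHom θ.surjective]
    exact le_top
  rintro _ ⟨_, ⟨i, j, hij, c, rfl⟩, rfl⟩
  show (θ.toMonoidHom _) ^ 3 = 1
  rw [← map_pow]
  convert map_one θ.toMonoidHom
  rw [pow_succ, pow_succ, pow_one, ← Matrix.SpecialLinearGroup.transvection_add,
    ← Matrix.SpecialLinearGroup.transvection_add,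
    show c + c + c = 0 by decide +revert,
    Matrix.SpecialLinearGroup.transvection_coeff_zero]

/-- A pair window is generated by its elements of order three. -/
theorem pair_gen {a b : Fin n} (hab : a ≠ b) :
    Subgroup.closure (cubes (Win F 3 ({a, b} : Finset (Fin n)))) = Win F 3 {a, b} := by
  refine le_antisymm ((Subgroup.closure_le _).2 fun g hg => hg.2) ?_
  let f : Fin 2 ↪ Fin n := ⟨![a, b], fun i j h => by
    fin_cases i <;> fin_cases j <;> simp_all [eq_comm]⟩
  have hS : Finset.univ.map f = ({a, b} : Finset (Fin n)) := by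
    ext x
    simp only [Finset.mem_map, Finset.mem_univ, true_and, Fin.exists_fin_two, Finset.mem_insert,
      Finset.mem_singleton]
    exact or_congr eq_comm eq_comm
  intro g hg
  obtain ⟨g₀, rfl⟩ := emb_surj hF f (hS.symm ▸ hg)
  have h : Subgroup.closure {g : SU 2 F 3 | g ^ 3 = 1} ≤
      (Subgroup.closure (cubes (Win F 3 ({a, b} : Finset (Fin n))))).comap (emb hF f) := by
    refine (Subgroup.closure_le _).2 fun x hx => Subgroup.subset_closure ⟨?_, ?_⟩
    · rw [← map_pow, show x ^ 3 = 1 from hx, map_one]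
    · rw [← hS]; exact (emb_mem_iff hF f x Finset.univ).2 (win_univ x)
  rw [su_two_gen hF] at h
  exact h trivial

theorem sgn_fix {S : Finset (Fin n)} {v : Fin n → F} : sgn F S *ᵥ v = v ↔ ∀ i ∈ S, v i = 0 := by
  simp only [sgn, funext_iff, mulVec_diagonal]
  refine forall_congr' fun i => ?_
  by_cases h : i ∈ S
  · simp only [h, if_true, forall_const]
    refine ⟨fun e => ?_, fun e => by rw [e, mul_zero]⟩
    have h2 : (2 : F) * v i = 0 := by linear_combination -e
    exact (mul_eq_zero.1 h2).resolve_left (two_ne hF)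
  · simp [h]

/-- A window is the pointwise stabiliser of the fixed space of its sign matrix. -/
theorem mem_win_sgn {S : Finset (Fin n)} {g : SU n F 3} :
    g ∈ Win F 3 S ↔ ∀ v, sgn F S *ᵥ v = v → suMat g *ᵥ v = v := by
  refine ⟨fun hg v hv => ?_, fun h i hi => h _ ((sgn_fix hF).2 fun j hj => ?_)⟩
  · exact win_fix_disjoint hF hg (T := Finset.univ.filter (· ∉ S))
      (fun i hi => (sgn_fix hF).1 hv i (by simpa using hi))
      (Finset.disjoint_left.2 fun i hi h => (Finset.mem_filter.1 h).2 hi)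
  · exact Pi.single_eq_of_ne (show j ≠ i from fun e => hi (e ▸ hj)) 1

/-- Conjugation carrying one sign matrix to another carries the windows. -/
theorem conj_mem_win {S T : Finset (Fin n)} {M g : SU n F 3}
    (h : suMat M * sgn F S = sgn F T * suMat M) :
    M * g * M⁻¹ ∈ Win F 3 T ↔ g ∈ Win F 3 S := by
  rw [mem_win_sgn hF, mem_win_sgn hF]
  refine ⟨fun H v hv => ?_, fun H v hv => ?_⟩
  · have h2 := H (suMat M *ᵥ v) (by rw [mulVec_mulVec, ← h, ← mulVec_mulVec, hv])
    rw [suMat_mulVec_mul, suMat_mulVec_mul, suMat_inv_mulVec] at h2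
    have h3 := congrArg (fun w => suMat M⁻¹ *ᵥ w) h2
    simpa only [suMat_inv_mulVec] using h3
  · have e : sgn F S *ᵥ (suMat M⁻¹ *ᵥ v) = suMat M⁻¹ *ᵥ v := by
      have h2 : suMat M *ᵥ (sgn F S *ᵥ (suMat M⁻¹ *ᵥ v)) = v := by
        rw [mulVec_mulVec, h, ← mulVec_mulVec, suMat_mulVec_inv, hv]
      have h3 := congrArg (fun w => suMat M⁻¹ *ᵥ w) h2
      simpa only [suMat_inv_mulVec] using h3
    rw [suMat_mulVec_mul, suMat_mulVec_mul, H _ e, suMat_mulVec_inv]

theorem exists_eigen_unit {M : Matrix (Fin n) (Fin n) F} (hM : IsIso 3 M) (h2 : M * M = 1)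
    {W : Submodule F (Fin n → F)} (hW : IsNondeg 3 W) (hinv : ∀ v ∈ W, M *ᵥ v ∈ W) (hne : W ≠ ⊥) :
    ∃ w ∈ W, hermForm n F 3 w w = 1 ∧ (M *ᵥ w = w ∨ M *ᵥ w = -w) := by
  set P : Submodule F (Fin n → F) := W ⊓ LinearMap.eqLocus M.mulVecLin LinearMap.id with hP
  have key : ∀ v ∈ W, v + M *ᵥ v ∈ P := fun v hv => ⟨W.add_mem hv (hinv v hv), by
    show M *ᵥ (v + M *ᵥ v) = v + M *ᵥ v
    rw [mulVec_add, mulVec_mulVec, h2, one_mulVec, add_comm]⟩
  by_cases hP0 : P = ⊥
  · obtain ⟨w, hw, hn⟩ := exists_norm_one_mem hF hW hne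
    have h3 := key w hw
    rw [hP0, Submodule.mem_bot] at h3
    exact ⟨w, hw, hn, Or.inr (eq_neg_of_add_eq_zero_right h3)⟩
  · have hnd : IsNondeg 3 P := by
      intro u hu h
      refine hW u hu.1 fun v hv => ?_
      have hu2 : M *ᵥ u = u := hu.2
      have h4 := h _ (key v hv)
      rw [h_add_right hF] at h4
      have h5 : hermForm n F 3 u (M *ᵥ v) = hermForm n F 3 u v := by
        conv_lhs => rw [← hu2, hM]
      rw [h5] at h4
      have h6 : (2 : F) * hermForm n F 3 u v = 0 := by linear_combination h4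
      exact (mul_eq_zero.1 h6).resolve_left (two_ne hF)
    obtain ⟨w, hw, hn⟩ := exists_norm_one_mem hF hnd hP0
    exact ⟨w, hw.1, hn, Or.inl hw.2⟩

theorem exists_eigen_frame {M : Matrix (Fin n) (Fin n) F} (hM : IsIso 3 M) (h2 : M * M = 1) :
    ∀ k, ∀ W : Submodule F (Fin n → F), IsNondeg 3 W → (∀ v ∈ W, M *ᵥ v ∈ W) →
      k ≤ Module.finrank F W → ∃ (b : Fin k → Fin n → F) (e : Fin k → F), IsON 3 b ∧
        (∀ i, b i ∈ W) ∧ ∀ i, (e i = 1 ∨ e i = -1) ∧ M *ᵥ b i = e i • b i := by
  intro k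
  induction k with
  | zero => exact fun _ _ _ _ => ⟨Fin.elim0, Fin.elim0, fun i => i.elim0, fun i => i.elim0,
      fun i => i.elim0⟩
  | succ k ih =>
    intro W hW hinv hk
    obtain ⟨b, e, hb, hbW, he⟩ := ih W hW hinv (by omega)
    set W' : Submodule F (Fin n → F) := W ⊓ perp 3 (Set.range b) with hW'
    have hproj : ∀ v ∈ W, v - ∑ i, hermForm n F 3 v (b i) • b i ∈ W' := fun v hv =>
      ⟨W.sub_mem hv (W.sum_mem fun i _ => W.smul_mem _ (hbW i)), mem_perp_range.2 fun j => by
        rw [h_sub_left, IsON.coeff hF hb, sub_self]⟩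
    have hnd : IsNondeg 3 W' := fun u hu h => hW u hu.1 fun v hv => by
      have h4 := h _ (hproj v hv)
      rw [h_sub_right hF, h_sum_right hF] at h4
      simpa [h_smul_right hF, mem_perp_range.1 hu.2] using h4
    have hinv' : ∀ v ∈ W', M *ᵥ v ∈ W' := fun v hv => ⟨hinv v hv.1, mem_perp_range.2 fun j => by
      have h5 : hermForm n F 3 (M *ᵥ v) (M *ᵥ b j) = 0 := by rw [hM, mem_perp_range.1 hv.2 j]
      rw [(he j).2, h_smul_right hF] at h5
      rcases (he j).1 with h6 | h6 <;> simpa [h6] using h5⟩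
    have hne : W' ≠ ⊥ := by
      intro hbot
      have hle : W ≤ Submodule.span F (Set.range b) := fun v hv => by
        have h4 := hproj v hv
        rw [hbot, Submodule.mem_bot, sub_eq_zero] at h4
        rw [h4]
        exact Submodule.sum_mem _ fun i _ => Submodule.smul_mem _ _ (Submodule.subset_span ⟨i, rfl⟩)
      have h4 := Submodule.finrank_mono hle
      have h5 := finrank_range_le_card b (R := F)
      rw [Set.finrank] at h5
      simp at h5
      omega
    obtain ⟨w, hw, hn, hMw⟩ := exists_eigen_unit hF hM h2 hnd hinv' hne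
    obtain ⟨c, hc, hcw⟩ : ∃ c : F, (c = 1 ∨ c = -1) ∧ M *ᵥ w = c • w :=
      hMw.elim (fun h => ⟨1, Or.inl rfl, by rw [h, one_smul]⟩)
        fun h => ⟨-1, Or.inr rfl, by rw [h, neg_one_smul]⟩
    have hwb := mem_perp_range.1 hw.2
    refine ⟨Fin.snoc b w, Fin.snoc e c, fun i j => ?_, fun i => ?_, fun i => ?_⟩
    · induction i using Fin.lastCases <;> induction j using Fin.lastCases <;>
        simp [hn, hwb, hb _ _, (h_eq_zero_comm hF).1 (hwb _), Fin.castSucc_ne_last,
          (Fin.castSucc_ne_last _).symm]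
    · induction i using Fin.lastCases with
      | last => rw [Fin.snoc_last]; exact hw.1
      | cast i => rw [Fin.snoc_castSucc]; exact hbW i
    · induction i using Fin.lastCases
      · simpa using ⟨hc, hcw⟩
      · simpa using he _

/-- An element of `SU` with a given orthonormal frame as columns, up to phases. -/
theorem exists_of_frame (hn : 0 < n) {b : Fin n → Fin n → F} (hb : IsON 3 b) :
    ∃ M : SU n F 3, ∀ i, ∃ c : F, c ^ (3 + 1) = 1 ∧ suMat M *ᵥ δ i = c • b i := by
  classical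
  have hd := (colMat_isIso hF hb).det_norm hF
  set d := (Matrix.of fun j k => b k j).det with hdd
  have hd0 : d ≠ 0 := fun e => by simp [e] at hd
  let ph : Fin n → F := Function.update 1 ⟨0, hn⟩ d⁻¹
  have hph : ∀ i, ph i ^ (3 + 1) = 1 := fun i => by
    by_cases h : i = ⟨0, hn⟩
    · subst h; simp [ph, inv_pow, hd]
    · simp [ph, h]
  refine ⟨mkSU ((Matrix.of fun j k => b k j) * diagonal ph)
    ((colMat_isIso hF hb).mul (SCFour.isIso_diagonal hF hph)) ?_, fun i => ⟨ph i, hph i, ?_⟩⟩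
  · rw [det_mul, det_diagonal, ← hdd, Finset.prod_update_of_mem (Finset.mem_univ _)]
    simp [hd0]
  · show ((Matrix.of fun j k => b k j) * diagonal ph) *ᵥ δ i = _
    rw [← mulVec_mulVec, diagonal_mulVec_single, mul_one, show Pi.single i (ph i) =
      ph i • (Pi.single i 1 : Fin n → F) by simp [← Pi.single_smul], mulVec_smul,
      colMat_mulVec_single]

/-- A monomial element realising a permutation of the coordinates. -/
theorem exists_perm (hn : 0 < n) (σ : Equiv.Perm (Fin n)) :
    ∃ M : SU n F 3, ∀ i, ∃ c : F, c ^ (3 + 1) = 1 ∧ suMat M *ᵥ δ i = c • δ (σ i) :=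
  exists_of_frame hF hn fun i j => by
    rw [h_single_single hF]
    simp [σ.injective.eq_iff]

/-- Matrices agreeing on the coordinate vectors with an eigenframe. -/
theorem mul_diag_eq {b : Fin n → Fin n → F} {e : Fin n → F} {M : SU n F 3}
    (hM : ∀ i, ∃ c : F, c ^ (3 + 1) = 1 ∧ suMat M *ᵥ δ i = c • b i)
    {Y : Matrix (Fin n) (Fin n) F} (he : ∀ i, Y *ᵥ b i = e i • b i) :
    suMat M * diagonal e = Y * suMat M := by
  refine Matrix.ext_of_mulVec_single fun i => ?_
  obtain ⟨c, -, hc⟩ := hM i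
  rw [← mulVec_mulVec, ← mulVec_mulVec, hc, mulVec_smul, he, diagonal_mulVec_single, mul_one,
    show Pi.single i (e i) = e i • (Pi.single i 1 : Fin n → F) by simp [← Pi.single_smul],
    mulVec_smul, hc, smul_comm]

end H70.Phan.Nine
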