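import Cfsg.Agent.H70.Phan.SLModel
import Cfsg.Agent.H55.PSLAutTwo

/-!
The shape of the elements of `SU_2`, and traces under automorphisms.
-/

set_option autoImplicit false
set_option linter.unusedSectionVars false

namespace H70.Phan

open Matrix Cfsg H50 H55

variable {F : Type*} [Field F] [Fintype F] {q : ℕ} (hF : Fintype.card F = q ^ 2)
include hF

theorem su2_norm (x : SU 2 F q) :
    suMat x 0 0 * suMat x 0 0 ^ q + suMat x 1 0 * suMat x 1 0 ^ q = 1 := by
  have h := suMat_h x (Pi.single 0 1) (Pi.single 0 1)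
  simp [hermForm, Fin.sum_univ_two, Matrix.col_apply, zero_pow (q_ne_zero hF)] at h
  exact h

theorem su2_shape (x : SU 2 F q) :
    suMat x 1 0 = -(suMat x 0 1 ^ q) ∧ suMat x 1 1 = suMat x 0 0 ^ q := by
  have h1 := su2_norm hF x
  have h3 := suMat_h x (Pi.single 1 1) (Pi.single 0 1)
  simp [hermForm, Fin.sum_univ_two, Matrix.col_apply, zero_pow (q_ne_zero hF)] at h3
  have hd : (suMat x).det = 1 := x.1.2
  rw [Matrix.det_fin_two] at hd
  refine ⟨?_, ?_⟩
  · have hb : suMat x 1 0 ^ q = -(suMat x 0 1) := by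
      linear_combination (-(suMat x 1 0 ^ q)) * hd + (suMat x 0 0) * h3 - (suMat x 0 1) * h1
    have := congrArg (· ^ q) hb
    rwa [pow_q_pow_q hF, neg_pow_q hF] at this
  · linear_combination (suMat x 0 0 ^ q) * hd + (suMat x 1 0) * h3 - (suMat x 1 1) * h1

theorem su2_norm' (x : SU 2 F q) :
    suMat x 0 0 ^ (q + 1) + suMat x 0 1 ^ (q + 1) = 1 := by
  have h := su2_norm hF x
  rw [(su2_shape hF x).1, neg_pow_q hF, pow_q_pow_q hF] at h
  linear_combination h

theorem su2_ext {x y : SU 2 F q} (h0 : suMat x 0 0 = suMat y 0 0)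
    (h1 : suMat x 0 1 = suMat y 0 1) : x = y := by
  refine SU_ext (Matrix.ext fun i j => ?_)
  change suMat x i j = suMat y i j
  fin_cases i <;> fin_cases j <;>
    simp [(su2_shape hF x).1, (su2_shape hF x).2, (su2_shape hF y).1, (su2_shape hF y).2, h0, h1]

theorem exists_mk2 {α β : F} (h : α ^ (q + 1) + β ^ (q + 1) = 1) :
    ∃ x : SU 2 F q, suMat x 0 0 = α ∧ suMat x 0 1 = β := by
  have hαα : (α ^ q) ^ q = α := pow_q_pow_q hF α
  have hββ : (β ^ q) ^ q = β := pow_q_pow_q hF β
  refine ⟨mkSU !![α, β; -(β ^ q), α ^ q] (fun u v => ?_) ?_, rfl, rfl⟩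
  · simp [hermForm, Fin.sum_univ_two, Matrix.mulVec, dotProduct, add_pow_q hF, mul_pow,
      neg_pow_q hF, hαα, hββ, sub_pow_q hF]
    linear_combination (u 0 * v 0 ^ q + u 1 * v 1 ^ q) * h
  · rw [Matrix.det_fin_two]
    simp
    linear_combination h

/-- The norm one group is generated by an element which is not fixed by conjugation. -/
theorem exists_norm_gen : ∃ b : F, b ^ (q + 1) = 1 ∧ b ^ q ≠ b ∧
    ∀ c : F, c ^ (q + 1) = 1 → ∃ k : ℕ, c = b ^ k := by
  classical
  have hq := two_le hF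
  obtain ⟨g, hg⟩ := IsCyclic.exists_monoid_generator (α := Fˣ)
  have hord : orderOf g = (q + 1) * (q - 1) := by
    rw [orderOf_eq_card_of_forall_mem_zpowers (fun x => by
      obtain ⟨k, hk⟩ := hg x; exact ⟨k, by simpa using hk⟩), Nat.card_units,
      Nat.card_eq_fintype_card, hF, ← Nat.sq_sub_sq, one_pow]
  refine ⟨((g : F) ^ (q - 1)), ?_, ?_, fun c hc => ?_⟩
  · rw [← pow_mul, mul_comm, ← hord, ← Units.val_pow_eq_pow_val, pow_orderOf_eq_one, Units.val_one]
  · intro h
    have h1 : (g ^ (q - 1)) ^ (q - 1) = 1 := by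
      have h2 : (g ^ (q - 1)) ^ q = g ^ (q - 1) := Units.ext (by simpa using h)
      apply mul_left_cancel (a := g ^ (q - 1))
      rw [← pow_succ', show q - 1 + 1 = q by omega, h2, mul_one]
    rw [← pow_mul] at h1
    have h2 := Nat.le_of_dvd (Nat.mul_pos (by omega) (by omega)) (orderOf_dvd_of_pow_eq_one h1)
    rw [hord] at h2
    have := Nat.le_of_mul_le_mul_right h2 (by omega)
    omega
  · have hc0 : c ≠ 0 := fun e => by simp [e] at hc
    obtain ⟨k, hk⟩ := hg (Units.mk0 c hc0)
    have hk1 : g ^ (k * (q + 1)) = 1 := by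
      rw [pow_mul, show g ^ k = Units.mk0 c hc0 from hk]
      exact Units.ext (by simpa using hc)
    have h2 := orderOf_dvd_of_pow_eq_one hk1
    rw [hord, mul_comm k] at h2
    obtain ⟨j, hj⟩ := Nat.dvd_of_mul_dvd_mul_left (by omega) h2
    refine ⟨j, ?_⟩
    rw [← pow_mul, ← hj]
    have := congrArg Units.val hk
    simpa using this.symm

/-- Automorphisms of `SU_2` act on traces through the Galois group. -/
theorem exists_trace_map (a : SU 2 F q ≃* SU 2 F q) :
    ∃ s : F ≃+* F, ∀ x, (suMat (a x)).trace = s (suMat x).trace := by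
  classical
  let K : Subfield F := RingHom.eqLocusField (conjHom hF) (RingHom.id F)
  letI : Fintype K := Fintype.ofFinite K
  have hK : Fintype.card K = q := by
    rw [← Nat.card_eq_fintype_card]
    exact (Nat.card_congr (Equiv.subtypeEquivRight fun x => Iff.rfl)).trans (card_fixed hF)
  obtain ⟨θ, hθ⟩ := exists_sl_model hF hK K.subtype
  obtain ⟨p, hp⟩ := CharP.exists F
  haveI : Fact p.Prime := ⟨CharP.char_is_prime F p⟩
  haveI : CharP K p := K.subtype.charP K.subtype.injective p
  let a' : MulAut (SLn 2 K) := (θ.trans a).trans θ.symm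
  let ā : MulAut (PSLn 2 K) := QuotientGroup.congr _ _ a' (by
    apply le_antisymm
    · rintro _ ⟨z, hz, rfl⟩
      rw [Subgroup.mem_center_iff]
      intro y
      apply a'.symm.injective
      simpa using Subgroup.mem_center_iff.1 hz (a'.symm y)
    · intro z hz
      refine ⟨a'.symm z, ?_, a'.apply_symm_apply z⟩
      rw [SetLike.mem_coe, Subgroup.mem_center_iff]
      intro y
      apply a'.injective
      simpa using Subgroup.mem_center_iff.1 hz (a' y))
  have hā : ∀ x, ā (pmk x) = pmk (a' x) := fun x => rfl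
  obtain ⟨g, σ, hgσ⟩ := aut_PSL_two ā
  have key : ∀ x, a' x = conjSL g (fieldSL σ x) := by
    have hom : a'.toMonoidHom = (conjSL g * fieldSL σ).toMonoidHom := by
      refine MonoidHom.eq_of_eqOn_dense (closure_transvections (n := 2) (F := K)) ?_
      rintro _ ⟨i, j, h, t, rfl⟩
      have hx : (xe h t : SLn 2 K) ^ p = 1 := by
        rw [← tv_eq_xe h t (dot_smul_zero (ev_dot_ev h) t)]
        exact tv_pow_char _ _ _
      refine eq_of_pmk_eq (p := p) ?_ ?_ ?_
      · rw [← map_pow, hx, map_one]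
      · rw [← map_pow, hx, map_one]
      · exact (hā _).symm.trans (DFunLike.congr_fun hgσ _)
    exact fun x => DFunLike.congr_fun hom x
  obtain ⟨k, hk⟩ : ∃ k : ℕ, ∀ t : K, σ t = t ^ p ^ k := by
    letI : Algebra (ZMod p) K := ZMod.algebra K p
    let σ' : K ≃ₐ[ZMod p] K := AlgEquiv.ofRingEquiv (f := σ) (fun z => by
      exact DFunLike.congr_fun
        (RingHom.ext_zmod (σ.toRingHom.comp (algebraMap (ZMod p) K)) (algebraMap (ZMod p) K)) z)
    obtain ⟨m, hm⟩ := (FiniteField.bijective_frobeniusAlgEquivOfAlgebraic_pow (ZMod p) K).2 σ'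
    refine ⟨m, fun t => ?_⟩
    have e := DFunLike.congr_fun hm t
    simp only [AlgEquiv.coe_pow, FiniteField.coe_frobeniusAlgEquivOfAlgebraic, pow_iterate,
      Nat.card_zmod, Fintype.card_eq_nat_card] at e
    exact e.symm
  refine ⟨iterateFrobeniusEquiv F p k, fun x => ?_⟩
  obtain ⟨y, rfl⟩ := θ.surjective x
  have e : a (θ y) = θ (a' y) := by simp [a']
  rw [e, hθ, hθ, iterateFrobeniusEquiv_def, key, coe_conjSL, coe_fieldSL]
  have ht : ((g : Matrix (Fin 2) (Fin 2) K) * ((y : Matrix (Fin 2) (Fin 2) K).map σ) *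
      ((g⁻¹ : GL (Fin 2) K) : Matrix (Fin 2) (Fin 2) K)).trace =
      σ ((y : Matrix (Fin 2) (Fin 2) K).trace) := by
    rw [Matrix.trace_mul_comm, ← mul_assoc, ← Units.val_mul, inv_mul_cancel, Units.val_one, one_mul]
    exact (AddMonoidHom.map_trace σ.toAddMonoidHom _).symm
  rw [ht, hk, map_pow]

end H70.Phan
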