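import Cfsg.Agent.H70.Phan.NineBase
import Cfsg.Agent.H70.Phan.SUTwo
import Cfsg.Agent.H69.SUGen

/-!
A homomorphic image of `SU_4` over the field with nine elements: two commuting copies of `SU_2`
linked by a standard pair sit as the standard pair windows.
-/

set_option autoImplicit false
set_option linter.unusedSectionVars false

namespace H70.Phan.Nine

open Matrix Cfsg H50 H37 H69.SUW H41.Phan

universe u v

variable {F : Type u} [Field F] [Fintype F] (hF : Fintype.card F = 3 ^ 2) {n : ℕ}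
  {G : Type v} [Group G]

include hF

theorem win_sgn_comm {S : Finset (Fin n)} {g : SU n F 3} (hg : g ∈ Win F 3 S) :
    suMat g * sgn F S = sgn F S * suMat g := by
  ext i j
  rw [sgn, mul_diagonal, diagonal_mul]
  by_cases hi : i ∈ S <;> by_cases hj : j ∈ S
  · simp [hi, hj]
  · have h : suMat g i j = 0 := by
      rw [← H41.Phan.single_mulVec, hg j hj]
      exact Pi.single_eq_of_ne (show i ≠ j from fun e => hj (e ▸ hi)) 1
    simp [h]
  · have h : suMat g i j = 0 := by
      rw [← H41.Phan.single_mulVec, win_apply hF hg _ hi]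
      exact Pi.single_eq_of_ne (show i ≠ j from fun e => hi (e ▸ hj)) 1
    simp [h]
  · simp [hi, hj]

/-- The elements used in a pair window. -/
theorem pair_elems {a b : Fin n} (hab : a ≠ b) :
    ∃ t w z : SU n F 3, t ∈ Win F 3 {a, b} ∧ w ∈ Win F 3 {a, b} ∧ z ∈ Win F 3 {a, b} ∧
      suMat z = sgn F {a, b} ∧ t * w = z * w * t ∧ t * t = z ∧ z ≠ 1 := by
  obtain ⟨i, hi, hi4, hi3, -, -⟩ := exists_i hF
  obtain ⟨T, hT0, hT1⟩ := exists_mk2 hF (α := i) (β := 0)
    (by rw [show (3 : ℕ) + 1 = 4 from rfl, hi4, zero_pow (by omega), add_zero])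
  obtain ⟨W, hW0, hW1⟩ := exists_mk2 hF (α := 0) (β := 1) (by norm_num)
  obtain ⟨Z, hZ0, hZ1⟩ := exists_mk2 hF (α := (-1 : F)) (β := 0) (by norm_num)
  have shp : ∀ x : SU 2 F 3, suMat x = !![suMat x 0 0, suMat x 0 1;
      -(suMat x 0 1 ^ 3), suMat x 0 0 ^ 3] := fun x =>
    Matrix.ext (Fin.forall_fin_two.2 ⟨Fin.forall_fin_two.2 ⟨rfl, rfl⟩,
      Fin.forall_fin_two.2 ⟨(su2_shape hF x).1, (su2_shape hF x).2⟩⟩)
  have hT : suMat T = !![i, 0; 0, -i] := by rw [shp T, hT0, hT1, hi3]; simp
  have hW : suMat W = !![0, 1; -1, 0] := by rw [shp W, hW0, hW1]; simp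
  have hZ : suMat Z = !![-1, 0; 0, -1] := by rw [shp Z, hZ0, hZ1]; norm_num
  let f : Fin 2 ↪ Fin n := ⟨![a, b], fun i j h => by
    fin_cases i <;> fin_cases j <;> first
      | rfl
      | exact absurd h hab
      | exact absurd h hab.symm⟩
  have hS : Finset.univ.map f = ({a, b} : Finset (Fin n)) := by
    ext x
    simp only [Finset.mem_map, Finset.mem_univ, true_and, Fin.exists_fin_two, Finset.mem_insert,
      Finset.mem_singleton]
    exact or_congr eq_comm eq_comm
  have mem : ∀ x, emb hF f x ∈ Win F 3 ({a, b} : Finset (Fin n)) := fun x => by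
    rw [← hS]; exact (emb_mem_iff hF f x Finset.univ).2 (win_univ x)
  have hTW : T * W = Z * W * T := SU_ext (show suMat (T * W) = suMat (Z * W * T) by
    rw [suMat_mul, suMat_mul, suMat_mul, hT, hW, hZ]
    ext r s
    fin_cases r <;> fin_cases s <;> simp [Matrix.mul_apply, Fin.sum_univ_two])
  have hTT : T * T = Z := SU_ext (show suMat (T * T) = suMat Z by
    rw [suMat_mul, hT, hZ]
    ext r s
    fin_cases r <;> fin_cases s <;> simp [Matrix.mul_apply, Fin.sum_univ_two] <;>
      linear_combination hi)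
  refine ⟨emb hF f T, emb hF f W, emb hF f Z, mem T, mem W, mem Z, ?_, ?_, ?_, ?_⟩
  · ext r s
    by_cases hr : r ∈ Set.range f
    · obtain ⟨r', rfl⟩ := hr
      have hr' : f r' ∈ ({a, b} : Finset (Fin n)) := by rw [← hS]; simp
      by_cases hs : s ∈ Set.range f
      · obtain ⟨s', rfl⟩ := hs
        rw [emb_apply hF, hZ, sgn, diagonal_apply, if_pos hr']
        fin_cases r' <;> fin_cases s' <;> simp [f, hab, hab.symm]
      · have hne : f r' ≠ s := fun e => hs ⟨r', e⟩
        rw [emb_apply_right hF f Z _ hs, sgn, diagonal_apply_ne _ hne, one_apply_ne hne]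
    · have hr' : r ∉ ({a, b} : Finset (Fin n)) := fun h => hr (by
        rw [← hS] at h; simpa using h)
      rw [emb_apply_left hF f Z hr, sgn, diagonal_apply, if_neg hr', one_apply]
  · rw [← map_mul, ← map_mul, ← map_mul, hTW]
  · rw [← map_mul, hTT]
  · intro e
    have h := congrArg (fun x : SU 2 F 3 => suMat x 0 0)
      (emb_injective hF f (e.trans (map_one _).symm))
    simp only [hZ0, suMat_one, one_apply_eq] at h
    exact two_ne hF (by linear_combination -h)

/-- An element commuting with no sign is not central: a witness in an overlapping pair. -/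
theorem sgn_not_comm {a b c : Fin n} (hab : a ≠ b) (hbc : b ≠ c) (hac : a ≠ c) {z : SU n F 3}
    (hz : suMat z = sgn F {a, b}) : ∃ w ∈ Win F 3 ({b, c} : Finset (Fin n)), w * z ≠ z * w := by
  obtain ⟨W, hW0, hW1⟩ := exists_mk2 hF (α := (0 : F)) (β := 1) (by norm_num)
  let f : Fin 2 ↪ Fin n := ⟨![b, c], fun i j h => by
    fin_cases i <;> fin_cases j <;> simp_all [eq_comm]⟩
  have hS : Finset.univ.map f = ({b, c} : Finset (Fin n)) := by
    ext x
    simp only [Finset.mem_map, Finset.mem_univ, true_and, Fin.exists_fin_two, Finset.mem_insert,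
      Finset.mem_singleton]
    exact or_congr eq_comm eq_comm
  refine ⟨emb hF f W, by rw [← hS]; exact (emb_mem_iff hF f W Finset.univ).2 (win_univ W),
    fun e => ?_⟩
  have h := congrArg (fun x : SU n F 3 => suMat x (f 0) (f 1)) e
  simp only [suMat_mul, hz, sgn, mul_diagonal, diagonal_mul, emb_apply hF, hW1] at h
  have f0 : f 0 = b := rfl
  have f1 : f 1 = c := rfl
  simp [f0, f1, hac.symm, hbc.symm] at h
  exact two_ne hF (by linear_combination h)

theorem card_pair {a b : Fin n} (hab : a ≠ b) :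
    Nat.card (Win F 3 ({a, b} : Finset (Fin n))) = Nat.card (SU 2 F 3) := by
  let f : Fin 2 ↪ Fin n := ⟨![a, b], fun i j h => by
    fin_cases i <;> fin_cases j <;> first
      | rfl
      | exact absurd h hab
      | exact absurd h hab.symm⟩
  have hS : Finset.univ.map f = ({a, b} : Finset (Fin n)) := by
    ext x
    simp only [Finset.mem_map, Finset.mem_univ, true_and, Fin.exists_fin_two, Finset.mem_insert,
      Finset.mem_singleton]
    exact or_congr eq_comm eq_comm
  rw [← hS]
  exact (Nat.card_congr (embIso hF f).toEquiv).symm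

omit hF in
theorem map_cubes_top {H : Type*} [Group H] (χ : H →* G) (S : Subgroup H) :
    χ '' cubes S ⊆ cubes (S.map χ) := by
  rintro _ ⟨g, ⟨h3, hg⟩, rfl⟩
  exact ⟨by rw [← map_pow, h3, map_one], g, hg, rfl⟩

theorem map_gen (χ : SU n F 3 →* G) {a b : Fin n} (hab : a ≠ b) :
    Subgroup.closure (cubes ((Win F 3 ({a, b} : Finset (Fin n))).map χ)) =
      (Win F 3 {a, b}).map χ := by
  refine le_antisymm ((Subgroup.closure_le _).2 fun g hg => hg.2) ?_
  conv_lhs => rw [← pair_gen hF hab]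
  rw [MonoidHom.map_closure]
  exact Subgroup.closure_mono (map_cubes_top χ _)

/-- Entries outside the diagonal blocks vanish. -/
theorem off_zero {N : Matrix (Fin 4) (Fin 4) F} (hN : N * sgn F {0, 1} = sgn F {0, 1} * N)
    {r s : Fin 4} (hrs : ¬(r ∈ ({0, 1} : Finset (Fin 4)) ↔ s ∈ ({0, 1} : Finset (Fin 4)))) :
    N r s = 0 := by
  have h := congrFun (congrFun hN r) s
  simp only [sgn, mul_diagonal, diagonal_mul] at h
  have key : (2 : F) * N r s = 0 := by
    by_cases hr : r ∈ ({0, 1} : Finset (Fin 4))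
    · have hs : s ∉ ({0, 1} : Finset (Fin 4)) := fun e => hrs (iff_of_true hr e)
      rw [if_pos hr, if_neg hs] at h
      linear_combination h
    · have hs : s ∈ ({0, 1} : Finset (Fin 4)) := by
        by_contra e; exact hrs (iff_of_false hr e)
      rw [if_neg hr, if_pos hs] at h
      linear_combination -h
  exact (mul_eq_zero.1 key).resolve_left (two_ne hF)

/-- Matrix blocks of elements commuting with the standard sign matrix. -/
theorem blk_mul {M N : Matrix (Fin 4) (Fin 4) F} (hN : N * sgn F {0, 1} = sgn F {0, 1} * N)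
    {v : Fin 2 → Fin 4} (hv : v = ![0, 1] ∨ v = ![2, 3]) :
    (M * N).submatrix v v = M.submatrix v v * N.submatrix v v := by
  have z := fun r s => off_zero hF hN (r := r) (s := s)
  refine Matrix.ext (Fin.forall_fin_two.2 ⟨Fin.forall_fin_two.2 ⟨?_, ?_⟩,
    Fin.forall_fin_two.2 ⟨?_, ?_⟩⟩) <;> rcases hv with rfl | rfl <;>
    rw [submatrix_apply, Matrix.mul_apply, Matrix.mul_apply] <;>
    simp [ Fin.sum_univ_four, Fin.sum_univ_two, z 2 0 (by decide),
      z 3 0 (by decide), z 2 1 (by decide), z 3 1 (by decide), z 0 2 (by decide),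
      z 1 2 (by decide), z 0 3 (by decide), z 1 3 (by decide)]

theorem blk_det {c : SU 4 F 3} (hc : suMat c * sgn F {0, 1} = sgn F {0, 1} * suMat c)
    (h3 : c ^ 3 = 1) {v : Fin 2 → Fin 4} (hv : v = ![0, 1] ∨ v = ![2, 3])
    (hs : (suMat c).submatrix v v 0 1 = 0 ∧ (suMat c).submatrix v v 1 0 = 0 ∧
      (suMat c).submatrix v v 0 0 = (suMat c).submatrix v v 1 1) :
    (suMat c).submatrix v v = 1 := by
  have hinj : Function.Injective v := by rcases hv with rfl | rfl <;> decide
  set C := (suMat c).submatrix v v with hC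
  have hC3 : C * C * C = 1 := by
    rw [hC, ← blk_mul hF hc hv, ← blk_mul hF hc hv, ← suMat_mul, ← suMat_mul,
      show c * c * c = c ^ 3 by rw [pow_succ, pow_two], h3, suMat_one, submatrix_one _ hinj]
  have hd : C = C 0 0 • (1 : Matrix (Fin 2) (Fin 2) F) := by
    ext r s
    fin_cases r <;> fin_cases s <;> simp [hs.1, hs.2.1, hs.2.2]
  have hl : C 0 0 ^ 3 = 1 := by
    have h := congrFun (congrFun hC3 0) 0
    rw [hd] at h
    simp at h
    linear_combination h
  rw [hd, cube_one hF hl, one_smul]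

/-- One side of the splitting. -/
theorem side {a b c : SU 4 F 3} {v : Fin 2 → Fin 4} (hv : v = ![0, 1] ∨ v = ![2, 3])
    (ha : suMat a * sgn F {0, 1} = sgn F {0, 1} * suMat a)
    (hb : suMat b * sgn F {0, 1} = sgn F {0, 1} * suMat b)
    (hc : suMat c * sgn F {0, 1} = sgn F {0, 1} * suMat c) (h3 : c ^ 3 = 1)
    (hab : (suMat a).submatrix v v * (suMat b).submatrix v v ≠
      (suMat b).submatrix v v * (suMat a).submatrix v v)
    (hac : a * c = c * a) (hbc : b * c = c * b) :
    (suMat c).submatrix v v = 1 := by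
  refine blk_det hF hc h3 hv ?_
  by_contra hs
  refine hab (commute_trans_two ?_ ?_ hs)
  · rw [← blk_mul hF hc hv, ← blk_mul hF ha hv, ← suMat_mul, ← suMat_mul, hac]
  · rw [← blk_mul hF hc hv, ← blk_mul hF hb hv, ← suMat_mul, ← suMat_mul, hbc]

theorem mem_of_blk {c : SU 4 F 3} (hc : suMat c * sgn F {0, 1} = sgn F {0, 1} * suMat c)
    {v : Fin 2 → Fin 4} {S : Finset (Fin 4)}
    (hv : v = ![0, 1] ∧ S = {2, 3} ∨ v = ![2, 3] ∧ S = {0, 1})
    (h1 : (suMat c).submatrix v v = 1) : c ∈ Win F 3 S := by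
  intro j hj
  funext r
  rw [H41.Phan.single_mulVec]
  have z := fun r s => off_zero hF hc (r := r) (s := s)
  have e00 := congrFun (congrFun h1 0) 0
  have e01 := congrFun (congrFun h1 0) 1
  have e10 := congrFun (congrFun h1 1) 0
  have e11 := congrFun (congrFun h1 1) 1
  rcases hv with ⟨rfl, rfl⟩ | ⟨rfl, rfl⟩ <;> simp at e00 e01 e10 e11 <;>
    fin_cases j <;> first
      | (exfalso; exact absurd hj (by decide))
      | (fin_cases r <;> simp [e00, e01, e10, e11, z 2 0 (by decide), z 3 0 (by decide),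
          z 2 1 (by decide), z 3 1 (by decide), z 0 2 (by decide), z 1 2 (by decide),
          z 0 3 (by decide), z 1 3 (by decide)])

/-- Commuting generated non-abelian groups of block diagonal elements split. -/
theorem split_pair {A B : Subgroup (SU 4 F 3)}
    (hA : Subgroup.closure (cubes A) = A) (hB : Subgroup.closure (cubes B) = B)
    (nA : ∃ x ∈ A, ∃ y ∈ A, x * y ≠ y * x) (nB : ∃ x ∈ B, ∃ y ∈ B, x * y ≠ y * x)
    (hc : ∀ x ∈ A, ∀ y ∈ B, x * y = y * x)
    (sA : ∀ x ∈ A, suMat x * sgn F {0, 1} = sgn F {0, 1} * suMat x)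
    (sB : ∀ x ∈ B, suMat x * sgn F {0, 1} = sgn F {0, 1} * suMat x) :
    (A ≤ Win F 3 {0, 1} ∧ B ≤ Win F 3 {2, 3}) ∨
      (A ≤ Win F 3 {2, 3} ∧ B ≤ Win F 3 {0, 1}) := by
  -- generators not commuting on a block
  have gen : ∀ C : Subgroup (SU 4 F 3), Subgroup.closure (cubes C) = C →
      (∃ x ∈ C, ∃ y ∈ C, x * y ≠ y * x) → ∃ a ∈ cubes C, ∃ b ∈ cubes C, a * b ≠ b * a := by
    rintro C hC ⟨x, hx, y, hy, hxy⟩
    by_contra hno
    push Not at hno
    refine hxy ?_
    rw [← hC] at hx hy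
    haveI := Subgroup.isMulCommutative_closure hno
    exact congrArg Subtype.val (mul_comm' (⟨x, hx⟩ : Subgroup.closure (cubes C)) ⟨y, hy⟩)
  have half : ∀ (C D : Subgroup (SU 4 F 3)) (v : Fin 2 → Fin 4) (S : Finset (Fin 4)),
      (v = ![0, 1] ∧ S = {2, 3} ∨ v = ![2, 3] ∧ S = {0, 1}) →
      Subgroup.closure (cubes D) = D → (∀ x ∈ C, ∀ y ∈ D, x * y = y * x) →
      (∀ x ∈ C, suMat x * sgn F {0, 1} = sgn F {0, 1} * suMat x) →
      (∀ x ∈ D, suMat x * sgn F {0, 1} = sgn F {0, 1} * suMat x) →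
      (∃ a ∈ cubes C, ∃ b ∈ cubes C, (suMat a).submatrix v v * (suMat b).submatrix v v ≠
        (suMat b).submatrix v v * (suMat a).submatrix v v) → D ≤ Win F 3 S := by
    intro C D v S hv hD hCD sC sD ⟨a, ha, b, hb, hab⟩
    rw [← hD]
    refine (Subgroup.closure_le _).2 fun c hc => mem_of_blk hF (sD c hc.2) hv ?_
    exact side hF (hv.imp And.left And.left) (sC a ha.2) (sC b hb.2) (sD c hc.2) hc.1 hab
      (hCD a ha.2 c hc.2) (hCD b hb.2 c hc.2)
  have some_side : ∀ C : Subgroup (SU 4 F 3),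
      (∀ x ∈ C, suMat x * sgn F {0, 1} = sgn F {0, 1} * suMat x) →
      (∃ a ∈ cubes C, ∃ b ∈ cubes C, a * b ≠ b * a) →
      ∃ (v : Fin 2 → Fin 4), (v = ![0, 1] ∨ v = ![2, 3]) ∧ ∃ a ∈ cubes C, ∃ b ∈ cubes C,
        (suMat a).submatrix v v * (suMat b).submatrix v v ≠
        (suMat b).submatrix v v * (suMat a).submatrix v v := by
    intro C sC ⟨a, ha, b, hb, hab⟩
    by_contra hno
    push Not at hno
    refine hab (SU_ext (show suMat (a * b) = suMat (b * a) from ?_))
    have e1 := hno ![0, 1] (Or.inl rfl) a ha b hb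
    have e2 := hno ![2, 3] (Or.inr rfl) a ha b hb
    rw [← blk_mul hF (sC b hb.2) (Or.inl rfl), ← blk_mul hF (sC a ha.2) (Or.inl rfl),
      ← suMat_mul, ← suMat_mul] at e1
    rw [← blk_mul hF (sC b hb.2) (Or.inr rfl), ← blk_mul hF (sC a ha.2) (Or.inr rfl),
      ← suMat_mul, ← suMat_mul] at e2
    have z := fun x (hx : x ∈ C) r s => off_zero hF (sC x hx) (r := r) (s := s)
    have a00 := congrFun (congrFun e1 0) 0
    have a01 := congrFun (congrFun e1 0) 1
    have a10 := congrFun (congrFun e1 1) 0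
    have a11 := congrFun (congrFun e1 1) 1
    have c00 := congrFun (congrFun e2 0) 0
    have c01 := congrFun (congrFun e2 0) 1
    have c10 := congrFun (congrFun e2 1) 0
    have c11 := congrFun (congrFun e2 1) 1
    simp only [submatrix_apply, cons_val_zero, cons_val_one, cons_val_fin_one] at a00 a01 a10 a11 c00 c01 c10 c11
    have za := z _ (mul_mem ha.2 hb.2)
    have zb := z _ (mul_mem hb.2 ha.2)
    ext r s
    fin_cases r <;> fin_cases s <;> first
      | assumption
      | exact (za _ _ (by decide)).trans (zb _ _ (by decide)).symm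
  obtain ⟨v, hv, hA'⟩ := some_side A sA (gen A hA nA)
  obtain ⟨w, hw, hB'⟩ := some_side B sB (gen B hB nB)
  have hBA : ∀ x ∈ B, ∀ y ∈ A, x * y = y * x := fun x hx y hy => (hc y hy x hx).symm
  rcases hv with rfl | rfl
  · have hB1 := half A B _ _ (Or.inl ⟨rfl, rfl⟩) hB hc sA sB hA'
    rcases hw with rfl | rfl
    · have hA1 := half B A _ _ (Or.inl ⟨rfl, rfl⟩) hA hBA sB sA hB'
      obtain ⟨a, ha, b, hb, hab⟩ := hA'
      exfalso
      apply hab
      have key : ∀ x ∈ A, (suMat x).submatrix ![(0 : Fin 4), 1] ![0, 1] = 1 := fun x hx => by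
        ext r s
        fin_cases r <;> fin_cases s <;>
          simp [← H41.Phan.single_mulVec, hA1 hx 0 (by decide), hA1 hx 1 (by decide)]
      rw [key a ha.2, key b hb.2]
    · exact Or.inl ⟨half B A _ _ (Or.inr ⟨rfl, rfl⟩) hA hBA sB sA hB', hB1⟩
  · have hB1 := half A B _ _ (Or.inr ⟨rfl, rfl⟩) hB hc sA sB hA'
    rcases hw with rfl | rfl
    · exact Or.inr ⟨half B A _ _ (Or.inl ⟨rfl, rfl⟩) hA hBA sB sA hB', hB1⟩
    · have hA1 := half B A _ _ (Or.inr ⟨rfl, rfl⟩) hA hBA sB sA hB'
      obtain ⟨a, ha, b, hb, hab⟩ := hA'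
      exfalso
      apply hab
      have key : ∀ x ∈ A, (suMat x).submatrix ![(2 : Fin 4), 3] ![2, 3] = 1 := fun x hx => by
        ext r s
        fin_cases r <;> fin_cases s <;>
          simp [← H41.Phan.single_mulVec, hA1 hx 2 (by decide), hA1 hx 3 (by decide)]
      rw [key a ha.2, key b hb.2]

end H70.Phan.Nine
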