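import Cfsg.Agent.H70.Phan.NineRecog

/-!
The middle pair window inside a central image of `SU_4` over the field with nine elements, and the
combined recognition theorem.
-/

set_option autoImplicit false
set_option linter.unusedSectionVars false

namespace H70.Phan.Nine

open Matrix Cfsg H50 H37 H69.SUW H41.Phan

universe u v

variable {F : Type u} [Field F] [Fintype F] (hF : Fintype.card F = 3 ^ 2) {n : ℕ}
  {G : Type v} [Group G]

include hF

theorem sgn_eigen (S : Finset (Fin n)) (i : Fin n) :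
    sgn F S *ᵥ (δ i : Fin n → F) = (if i ∈ S then (-1 : F) else 1) • δ i := by
  by_cases h : i ∈ S <;> simp [sgn, h, ← Pi.single_neg]

theorem win_image_ne (χ : SU 3 F 3 →* G) (hχ : Function.Injective χ) :
    (Win F 3 ({0, 1} : Finset (Fin 3))).map χ ≠ (Win F 3 ({1, 2} : Finset (Fin 3))).map χ := by
  intro e
  obtain ⟨t, w, z, -, -, hzm, hz, -, -, -⟩ := pair_elems hF (show (0 : Fin 3) ≠ 1 by decide)
  obtain ⟨v, hv, hv'⟩ := sgn_not_comm hF (a := (0 : Fin 3)) (b := 1) (c := 2) (by decide)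
    (by decide) (by decide) hz
  have h : χ v ∈ (Win F 3 ({0, 1} : Finset (Fin 3))).map χ := e.symm ▸ ⟨v, hv, rfl⟩
  obtain ⟨g, hg, hgv⟩ := h
  refine hv' ?_
  rw [← hχ hgv]
  refine SU_ext (show suMat (g * z) = suMat (z * g) from ?_)
  rw [suMat_mul, suMat_mul, hz, win_sgn_comm hF hg]

variable {Φ : SU 4 F 3 →* G} (hker : Φ.ker ≤ Subgroup.center (SU 4 F 3))
include hker

/-- The middle pair can be moved to its standard place, keeping the outer ones. -/
theorem exists_middle (χ χ' : SU 3 F 3 →* G) (hχ : Function.Injective χ)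
    (hχ' : Function.Injective χ') (hr : χ.range ≤ Φ.range)
    (hU2 : (Win F 3 ({1, 2} : Finset (Fin 3))).map χ = (Win F 3 ({0, 1} : Finset (Fin 3))).map χ')
    (h01 : (Win F 3 ({0, 1} : Finset (Fin 4))).map Φ =
      (Win F 3 ({0, 1} : Finset (Fin 3))).map χ)
    (h23 : (Win F 3 ({2, 3} : Finset (Fin 4))).map Φ =
      (Win F 3 ({1, 2} : Finset (Fin 3))).map χ') :
    ∃ M : SU 4 F 3,
      (Win F 3 ({0, 1} : Finset (Fin 4))).map (Φ.comp (MulAut.conj M).toMonoidHom) =
        (Win F 3 ({0, 1} : Finset (Fin 3))).map χ ∧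
      (Win F 3 ({1, 2} : Finset (Fin 4))).map (Φ.comp (MulAut.conj M).toMonoidHom) =
        (Win F 3 ({1, 2} : Finset (Fin 3))).map χ ∧
      (Win F 3 ({2, 3} : Finset (Fin 4))).map (Φ.comp (MulAut.conj M).toMonoidHom) =
        (Win F 3 ({1, 2} : Finset (Fin 3))).map χ' := by
  -- the element of `SU_3` carrying the first pair to the second
  obtain ⟨m3, hm3⟩ := exists_perm hF (n := 3) (by norm_num) (finRotate 3)
  have e3 : suMat m3 * sgn F {0, 1} = sgn F {1, 2} * suMat m3 := mul_diag_eq hF hm3 fun i => by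
    rw [sgn_eigen hF]; congr 1; fin_cases i <;> simp
  obtain ⟨m, hm⟩ := hr ⟨m3, rfl⟩
  -- the central involution
  obtain ⟨-, -, d, -, -, hd, hdm, -, -, hd1⟩ := pair_elems hF (show (0 : Fin 4) ≠ 1 by decide)
  obtain ⟨d3, hd3, ed⟩ : Φ d ∈ (Win F 3 ({0, 1} : Finset (Fin 3))).map χ := h01 ▸ ⟨d, hd, rfl⟩
  have hdd : d * d = 1 := SU_ext (show suMat (d * d) = suMat (1 : SU 4 F 3) by
    rw [suMat_mul, hdm, sgn, diagonal_mul_diagonal, suMat_one, ← diagonal_one]
    congr 1
    funext i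
    split_ifs <;> simp)
  have hd3m : suMat d3 = sgn F {0, 1} := by
    rcases invol_unique hF (show (0 : Fin 3) ≠ 1 by decide) hd3
      (hχ (by rw [map_mul, ed, ← map_mul, hdd, map_one, map_one])) with h | h
    · exfalso
      rw [h, map_one] at ed
      exact hd1 (ker_win hF hker (j := 2) (by decide) hd ed.symm)
    · exact h
  set x := m * d * m⁻¹ with hx
  set x3 := m3 * d3 * m3⁻¹ with hx3
  have ex : Φ x = χ x3 := by
    rw [hx, hx3, map_mul, map_mul, map_inv, hm, ← ed, map_mul, map_mul, map_inv]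
  have hx3m : suMat x3 = sgn F {1, 2} := by
    rw [hx3, suMat_mul, suMat_mul, hd3m, e3, mul_assoc, ← suMat_mul, mul_inv_cancel, suMat_one,
      mul_one]
  have hxx : x * x = 1 := by
    rw [hx, show m * d * m⁻¹ * (m * d * m⁻¹) = m * (d * d) * m⁻¹ by group, hdd]
    group
  have hxinv : x⁻¹ = x := inv_eq_of_mul_eq_one_right hxx
  -- it normalises the first pair
  have hnorm : ∀ g ∈ Win F 3 ({0, 1} : Finset (Fin 4)),
      x * g * x⁻¹ ∈ Win F 3 ({0, 1} : Finset (Fin 4)) := by
    intro g hg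
    have h : Subgroup.closure (cubes (Win F 3 ({0, 1} : Finset (Fin 4)))) ≤
        (Win F 3 ({0, 1} : Finset (Fin 4))).comap (MulAut.conj x).toMonoidHom := by
      refine (Subgroup.closure_le _).2 fun k hk => mem_of_lift hF hker (j := 2) (by decide)
        (show (x * k * x⁻¹) ^ 3 = 1 by rw [conj_pow, hk.1]; group) ?_
      obtain ⟨k3, hk3, ek⟩ : Φ k ∈ (Win F 3 ({0, 1} : Finset (Fin 3))).map χ :=
        h01 ▸ ⟨k, hk.2, rfl⟩
      rw [h01]
      refine ⟨x3 * k3 * x3⁻¹, (conj_mem_win hF (M := x3) ?_).2 hk3, ?_⟩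
      · rw [hx3m, sgn, sgn, diagonal_mul_diagonal, diagonal_mul_diagonal]
        congr 1; funext i; rw [mul_comm]
      · show χ (x3 * k3 * x3⁻¹) = Φ (x * k * x⁻¹)
        rw [map_mul Φ, map_mul Φ, map_inv Φ, ex, ← ek, ← map_inv χ, ← map_mul χ, ← map_mul χ]
    rw [pair_gen hF (by decide)] at h
    exact h hg
  -- the frame
  have hsupp : ∀ j : Fin 4, j ∉ ({0, 1} : Finset (Fin 4)) →
      ∀ i ∈ ({0, 1} : Finset (Fin 4)), (suMat x *ᵥ δ j) i = 0 := by
    intro j hj
    refine (sgn_fix hF).1 ?_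
    have h := hnorm d hd j hj
    rw [hxinv, suMat_mulVec_mul, suMat_mulVec_mul, hdm] at h
    have h2 := congrArg (fun v => suMat x *ᵥ v) h
    simp only [← suMat_mulVec_mul, hxx, suMat_one, one_mulVec] at h2
    exact h2
  have hself : ∀ u v : Fin 4 → F, hermForm 4 F 3 (suMat x *ᵥ u) v =
      hermForm 4 F 3 u (suMat x *ᵥ v) := fun u v => by
    conv_rhs => rw [← suMat_h x u (suMat x *ᵥ v), ← suMat_mulVec_mul, hxx, suMat_one, one_mulVec]
  have hsupp' : ∀ j ∈ ({0, 1} : Finset (Fin 4)),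
      ∀ i, i ∉ ({0, 1} : Finset (Fin 4)) → (suMat x *ᵥ δ j) i = 0 := by
    intro j hj i hi
    rw [← h_single_right hF (suMat x *ᵥ δ j) i]
    show hermForm 4 F 3 (suMat x *ᵥ δ j) (δ i) = 0
    rw [hself, h_single_left hF, hsupp i hi j hj, zero_pow (by norm_num)]
  let W₀ : Submodule F (Fin 4 → F) := perp 3 (Set.range ![(δ 2 : Fin 4 → F), δ 3])
  let W₂ : Submodule F (Fin 4 → F) := perp 3 (Set.range ![(δ 0 : Fin 4 → F), δ 1])
  have mem₀ : ∀ v, v ∈ W₀ → v 2 = 0 ∧ v 3 = 0 := fun v hv =>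
    ⟨(h_single_right hF v 2).symm.trans (mem_perp_range.1 hv 0),
      (h_single_right hF v 3).symm.trans (mem_perp_range.1 hv 1)⟩
  have mem₂ : ∀ v, v ∈ W₂ → v 0 = 0 ∧ v 1 = 0 := fun v hv =>
    ⟨(h_single_right hF v 0).symm.trans (mem_perp_range.1 hv 0),
      (h_single_right hF v 1).symm.trans (mem_perp_range.1 hv 1)⟩
  have mk₀ : ∀ v : Fin 4 → F, v 2 = 0 → v 3 = 0 → v ∈ W₀ := fun v h h' =>
    mem_perp_range.2 (Fin.forall_fin_two.2 ⟨(h_single_right hF v 2).trans h,
      (h_single_right hF v 3).trans h'⟩)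
  have mk₂ : ∀ v : Fin 4 → F, v 0 = 0 → v 1 = 0 → v ∈ W₂ := fun v h h' =>
    mem_perp_range.2 (Fin.forall_fin_two.2 ⟨(h_single_right hF v 0).trans h,
      (h_single_right hF v 1).trans h'⟩)
  have hexp : ∀ (v : Fin 4 → F) (i : Fin 4),
      (suMat x *ᵥ v) i = ∑ j, suMat x i j * v j := fun v i => rfl
  have hz : ∀ i j : Fin 4, ¬(i ∈ ({0, 1} : Finset (Fin 4)) ↔ j ∈ ({0, 1} : Finset (Fin 4))) →
      suMat x i j = 0 := by
    intro i j hij
    rw [← H41.Phan.single_mulVec]
    by_cases hj : j ∈ ({0, 1} : Finset (Fin 4))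
    · exact hsupp' j hj i fun hi => hij (iff_of_true hi hj)
    · exact hsupp j hj i (not_not.1 fun hi => hij (iff_of_false hi hj))
  have inv₀ : ∀ v ∈ W₀, suMat x *ᵥ v ∈ W₀ := fun v hv => by
    obtain ⟨h2, h3⟩ := mem₀ v hv
    refine mk₀ _ ?_ ?_ <;>
      simp [hexp, Fin.sum_univ_four, h2, h3, hz 2 0 (by decide), hz 2 1 (by decide),
        hz 3 0 (by decide), hz 3 1 (by decide)]
  have inv₂ : ∀ v ∈ W₂, suMat x *ᵥ v ∈ W₂ := fun v hv => by
    obtain ⟨h0, h1⟩ := mem₂ v hv
    refine mk₂ _ ?_ ?_ <;>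
      simp [hexp, Fin.sum_univ_four, h0, h1, hz 0 2 (by decide), hz 0 3 (by decide),
        hz 1 2 (by decide), hz 1 3 (by decide)]
  have hon : ∀ i j : Fin 4, i ≠ j → IsON 3 ![(δ i : Fin 4 → F), δ j] := fun i j hij a b => by
    fin_cases a <;> fin_cases b <;> simp [h_single_single hF, hij, hij.symm]
  have hxm : suMat x * suMat x = 1 := by rw [← suMat_mul, hxx, suMat_one]
  have hrk : ∀ i j : Fin 4, i ≠ j →
      2 ≤ Module.finrank F (perp 3 (Set.range ![(δ i : Fin 4 → F), δ j])) := fun i j hij => by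
    have h := finrank_perp_range hF (IsON.linearIndependent hF (hon i j hij))
    rw [Fintype.card_fin] at h
    omega
  obtain ⟨b, e, hb, hbW, he⟩ := exists_eigen_frame hF (SU_isIso x) hxm 2 W₀
    (GramND.isNondeg_perp hF (IsON.gramND hF (hon 2 3 (by decide)))) inv₀ (hrk 2 3 (by decide))
  obtain ⟨c, f, hc, hcW, hf⟩ := exists_eigen_frame hF (SU_isIso x) hxm 2 W₂
    (GramND.isNondeg_perp hF (IsON.gramND hF (hon 0 1 (by decide)))) inv₂ (hrk 0 1 (by decide))
  let bb : Fin 4 → Fin 4 → F := ![b 0, b 1, c 0, c 1]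
  let ee : Fin 4 → F := ![e 0, e 1, f 0, f 1]
  have orth : ∀ k l, hermForm 4 F 3 (b k) (c l) = 0 ∧ hermForm 4 F 3 (c l) (b k) = 0 := fun k l => by
    obtain ⟨h2, h3⟩ := mem₀ _ (hbW k)
    obtain ⟨h0, h1⟩ := mem₂ _ (hcW l)
    constructor <;> simp [hermForm, Fin.sum_univ_four, h0, h1, h2, h3]
  have hbb : IsON 3 bb := fun i j => by
    fin_cases i <;> fin_cases j <;> simp [bb, hb _ _, hc _ _, (orth _ _).1, (orth _ _).2]
  have hee : ∀ i, suMat x *ᵥ bb i = ee i • bb i := fun i => by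
    fin_cases i
    exacts [(he 0).2, (he 1).2, (hf 0).2, (hf 1).2]
  have heig : ∀ i, sgn F ({0, 1} : Finset (Fin 4)) *ᵥ bb i =
      (if i ∈ ({0, 1} : Finset (Fin 4)) then (-1 : F) else 1) • bb i := by
    have hb' : ∀ k, sgn F ({0, 1} : Finset (Fin 4)) *ᵥ b k = (-1 : F) • b k := fun k => by
      obtain ⟨h2, h3⟩ := mem₀ _ (hbW k)
      funext r
      fin_cases r <;> simp [sgn, mulVec_diagonal, h2, h3]
    have hc' : ∀ k, sgn F ({0, 1} : Finset (Fin 4)) *ᵥ c k = (1 : F) • c k := fun k => by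
      obtain ⟨h0, h1⟩ := mem₂ _ (hcW k)
      funext r
      fin_cases r <;> simp [sgn, mulVec_diagonal, h0, h1]
    intro i
    fin_cases i
    exacts [hb' 0, hb' 1, hc' 0, hc' 1]
  have frame : ∀ σ : Equiv.Perm (Fin 4),
      (∀ i, σ i ∈ ({0, 1} : Finset (Fin 4)) ↔ i ∈ ({0, 1} : Finset (Fin 4))) →
      ∀ S : Finset (Fin 4), (∀ i, ee (σ i) = if i ∈ S then -1 else 1) →
        ∃ M : SU 4 F 3, suMat M * sgn F {0, 1} = sgn F {0, 1} * suMat M ∧
          suMat M * sgn F S = suMat x * suMat M := by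
    intro σ hσ S hS
    obtain ⟨M, hM⟩ := exists_of_frame hF (by norm_num) (b := bb ∘ σ) (fun i j => by
      simpa [σ.injective.eq_iff] using hbb (σ i) (σ j))
    refine ⟨M, mul_diag_eq hF hM fun i => ?_, mul_diag_eq hF hM fun i => ?_⟩
    · have h := heig (σ i)
      simp only [hσ i] at h
      exact h
    · rw [← hS i]; exact hee (σ i)
  have hmd : suMat m * sgn F {0, 1} = suMat x * suMat m := by
    rw [← hdm, ← suMat_mul, ← suMat_mul, hx, inv_mul_cancel_right]
  have himg : (Win F 3 ({1, 2} : Finset (Fin 3))).map χ =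
      ((Win F 3 ({0, 1} : Finset (Fin 3))).map χ).map (MulAut.conj (χ m3)).toMonoidHom := by
    rw [← map_conj_win hF χ e3, Subgroup.map_map]
    congr 1
    ext g
    simp
  -- transport by `m` and a frame element
  have key : ∀ (M : SU 4 F 3) (S : Finset (Fin 4)), suMat M * sgn F S = suMat x * suMat M →
      (Win F 3 S).map (Φ.comp (MulAut.conj M).toMonoidHom) =
        (Win F 3 ({1, 2} : Finset (Fin 3))).map χ := by
    intro M S hM
    have hw : suMat (m⁻¹ * M) * sgn F S = sgn F {0, 1} * suMat (m⁻¹ * M) := by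
      rw [suMat_mul, mul_assoc, hM, ← mul_assoc, ← mul_assoc]
      congr 1
      calc suMat m⁻¹ * suMat x = suMat (m⁻¹ * x) := (suMat_mul _ _).symm
        _ = suMat (d * m⁻¹) := by rw [hx, mul_assoc m, ← mul_assoc m⁻¹, inv_mul_cancel, one_mul]
        _ = _ := by rw [suMat_mul, hdm]
    rw [himg, ← h01, ← map_conj_win hF Φ hw, Subgroup.map_map]
    congr 1
    ext g
    simp [← hm, mul_assoc]
  have hne12 := win_image_ne hF χ hχ
  have hne23 := win_image_ne hF χ' hχ'
  rw [← hU2] at hne23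
  have htr : ee 0 + ee 1 + ee 2 + ee 3 = 0 := by
    obtain ⟨M, hM⟩ := exists_of_frame hF (by norm_num) hbb
    have h := congrArg (fun Y => Matrix.trace (suMat M⁻¹ * Y)) (mul_diag_eq hF hM hee)
    simp only [← mul_assoc, ← suMat_mul, inv_mul_cancel, suMat_one, one_mul] at h
    rw [trace_diagonal, Fin.sum_univ_four] at h
    rw [h, suMat_mul, trace_mul_comm, ← suMat_mul, ← mul_assoc, mul_inv_cancel, one_mul, hx,
      suMat_mul, trace_mul_comm, ← suMat_mul, ← mul_assoc, inv_mul_cancel, one_mul, hdm, sgn,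
      trace_diagonal, Fin.sum_univ_four]
    simp
  have finish : ∀ σ : Equiv.Perm (Fin 4),
      (∀ i, σ i ∈ ({0, 1} : Finset (Fin 4)) ↔ i ∈ ({0, 1} : Finset (Fin 4))) →
      (∀ i, ee (σ i) = if i ∈ ({1, 2} : Finset (Fin 4)) then -1 else 1) →
      ∃ M : SU 4 F 3,
        (Win F 3 ({0, 1} : Finset (Fin 4))).map (Φ.comp (MulAut.conj M).toMonoidHom) =
          (Win F 3 ({0, 1} : Finset (Fin 3))).map χ ∧
        (Win F 3 ({1, 2} : Finset (Fin 4))).map (Φ.comp (MulAut.conj M).toMonoidHom) =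
          (Win F 3 ({1, 2} : Finset (Fin 3))).map χ ∧
        (Win F 3 ({2, 3} : Finset (Fin 4))).map (Φ.comp (MulAut.conj M).toMonoidHom) =
          (Win F 3 ({1, 2} : Finset (Fin 3))).map χ' := by
    intro σ hσ hS
    obtain ⟨M, hM1, hM2⟩ := frame σ hσ _ hS
    have hneg : sgn F ({2, 3} : Finset (Fin 4)) = -sgn F {0, 1} := by
      rw [sgn, sgn, diagonal_neg]; congr 1; funext i; fin_cases i <;> simp
    refine ⟨M, ?_, key M _ hM2, ?_⟩
    · rw [map_conj_win hF Φ hM1, h01]
    · rw [map_conj_win hF Φ (show suMat M * sgn F {2, 3} = sgn F {2, 3} * suMat M by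
        rw [hneg, mul_neg, neg_mul, hM1]), h23]
  rcases (he 0).1 with a0 | a0 <;> rcases (he 1).1 with a1 | a1
  · -- both fixed: the middle pair would be the last one
    exfalso
    have hS : ∀ i, ee ((1 : Equiv.Perm (Fin 4)) i) =
        if i ∈ ({2, 3} : Finset (Fin 4)) then -1 else 1 := by
      rcases (hf 0).1 with a2 | a2 <;> rcases (hf 1).1 with a3 | a3 <;>
        simp [ee, a0, a1, a2, a3] at htr
      all_goals first
        | (intro i; fin_cases i <;> (simp [ee, a0, a1, a2, a3]; done))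
        | exact absurd (show (2 : F) = 0 by linear_combination htr) (two_ne hF)
        | exact absurd (show (2 : F) = 0 by linear_combination -htr) (two_ne hF)
        | exact absurd (show (2 : F) = 0 by linear_combination -htr + 2 * three_zero hF) (two_ne hF)
    obtain ⟨M, hM1, hM2⟩ := frame 1 (fun i => Iff.rfl) _ hS
    have hneg : sgn F ({2, 3} : Finset (Fin 4)) = -sgn F {0, 1} := by
      rw [sgn, sgn, diagonal_neg]; congr 1; funext i; fin_cases i <;> simp
    exact hne23 (((key M _ hM2).symm.trans (map_conj_win hF Φ (show suMat M * sgn F {2, 3} =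
      sgn F {2, 3} * suMat M by rw [hneg, mul_neg, neg_mul, hM1]))).trans h23)
  · rcases (hf 0).1 with a2 | a2 <;> rcases (hf 1).1 with a3 | a3 <;>
      simp [ee, a0, a1, a2, a3] at htr
    all_goals first
      | (refine finish 1 (fun i => Iff.rfl) (fun i => ?_)
         fin_cases i <;> (simp [ee, a0, a1, a2, a3]; done))
      | exact absurd (show (2 : F) = 0 by linear_combination htr) (two_ne hF)
      | exact absurd (show (2 : F) = 0 by linear_combination -htr) (two_ne hF)
      | (refine finish (Equiv.swap 2 3) (fun i => by fin_cases i <;> simp [Equiv.swap_apply_def])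
          (fun i => ?_)
         fin_cases i <;> (simp [ee, a0, a1, a2, a3, Equiv.swap_apply_def]; done))
  · rcases (hf 0).1 with a2 | a2 <;> rcases (hf 1).1 with a3 | a3 <;>
      simp [ee, a0, a1, a2, a3] at htr
    all_goals first
      | exact absurd (show (2 : F) = 0 by linear_combination htr) (two_ne hF)
      | exact absurd (show (2 : F) = 0 by linear_combination -htr) (two_ne hF)
      | (refine finish (Equiv.swap 0 1) (fun i => by fin_cases i <;> simp [Equiv.swap_apply_def])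
          (fun i => ?_)
         fin_cases i <;> (simp [ee, a0, a1, a2, a3, Equiv.swap_apply_def]; done))
      | (refine finish (Equiv.swap 0 1 * Equiv.swap 2 3)
          (fun i => by fin_cases i <;> simp [Equiv.swap_apply_def]) (fun i => ?_)
         fin_cases i <;> (simp [ee, a0, a1, a2, a3, Equiv.swap_apply_def]; done))
  · -- both negated: the middle pair would be the first one
    exfalso
    have hS : ∀ i, ee ((1 : Equiv.Perm (Fin 4)) i) =
        if i ∈ ({0, 1} : Finset (Fin 4)) then -1 else 1 := by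
      rcases (hf 0).1 with a2 | a2 <;> rcases (hf 1).1 with a3 | a3 <;>
        simp [ee, a0, a1, a2, a3] at htr
      all_goals first
        | (intro i; fin_cases i <;> (simp [ee, a0, a1, a2, a3]; done))
        | exact absurd (show (2 : F) = 0 by linear_combination htr) (two_ne hF)
        | exact absurd (show (2 : F) = 0 by linear_combination -htr) (two_ne hF)
        | exact absurd (show (2 : F) = 0 by linear_combination htr + 2 * three_zero hF) (two_ne hF)
    obtain ⟨M, hM1, hM2⟩ := frame 1 (fun i => Iff.rfl) _ hS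
    exact hne12 (((key M _ hM2).symm.trans (map_conj_win hF Φ hM1)).trans h01).symm

/-- The three standard pair windows. -/
theorem exists_standard (χ χ' : SU 3 F 3 →* G) (hχ : Function.Injective χ)
    (hχ' : Function.Injective χ') (hr : χ.range ≤ Φ.range) (hr' : χ'.range ≤ Φ.range)
    (hU2 : (Win F 3 ({1, 2} : Finset (Fin 3))).map χ = (Win F 3 ({0, 1} : Finset (Fin 3))).map χ')
    (hc : ∀ x ∈ (Win F 3 ({0, 1} : Finset (Fin 3))).map χ,
      ∀ y ∈ (Win F 3 ({1, 2} : Finset (Fin 3))).map χ', x * y = y * x) :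
    ∃ M : SU 4 F 3,
      (Win F 3 ({0, 1} : Finset (Fin 4))).map (Φ.comp (MulAut.conj M).toMonoidHom) =
        (Win F 3 ({0, 1} : Finset (Fin 3))).map χ ∧
      (Win F 3 ({1, 2} : Finset (Fin 4))).map (Φ.comp (MulAut.conj M).toMonoidHom) =
        (Win F 3 ({1, 2} : Finset (Fin 3))).map χ ∧
      (Win F 3 ({2, 3} : Finset (Fin 4))).map (Φ.comp (MulAut.conj M).toMonoidHom) =
        (Win F 3 ({1, 2} : Finset (Fin 3))).map χ' := by
  obtain ⟨M, h01, h23⟩ := exists_outer hF hker χ χ' hχ hχ' hr hr' hc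
  set Φ₁ := Φ.comp (MulAut.conj M).toMonoidHom with hΦ₁
  have hker₁ : Φ₁.ker ≤ Subgroup.center (SU 4 F 3) := fun g hg => by
    have h := hker (show M * g * M⁻¹ ∈ Φ.ker from hg)
    refine Subgroup.mem_center_iff.2 fun k => ?_
    have h2 := Subgroup.mem_center_iff.1 h (M * k * M⁻¹)
    calc k * g = M⁻¹ * (M * k * M⁻¹ * (M * g * M⁻¹)) * M := by group
      _ = g * k := by rw [h2]; group
  have hrng : χ.range ≤ Φ₁.range := by
    rw [hΦ₁, MonoidHom.range_comp, (MonoidHom.range_eq_top (f := (MulAut.conj M).toMonoidHom)).2 (MulAut.conj M).surjective,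
      ← MonoidHom.range_eq_map]
    exact hr
  obtain ⟨M', h⟩ := exists_middle hF hker₁ χ χ' hχ hχ' hrng hU2 h01 h23
  refine ⟨M * M', ?_⟩
  rwa [show Φ.comp (MulAut.conj (M * M')).toMonoidHom =
      Φ₁.comp (MulAut.conj M').toMonoidHom from MonoidHom.ext fun g => by simp [hΦ₁, mul_assoc]]

end H70.Phan.Nine
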