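import Cfsg.Agent.H70.Phan.NineFour
import Cfsg.Agent.H50.Simple
import Cfsg.Agent.H50.Center

/-!
Recognition of the three standard pair windows inside a central image of `SU_4` over the field with
nine elements.
-/

set_option autoImplicit false
set_option linter.unusedSectionVars false

namespace H70.Phan.Nine

open Matrix Cfsg H50 H37 H69.SUW H41.Phan

universe u v

variable {F : Type u} [Field F] [Fintype F] (hF : Fintype.card F = 3 ^ 2) {n : ℕ}
  {G : Type v} [Group G]

/-- The elements of order three over a subgroup, and what they generate. -/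
def lift3 (Φ : SU 4 F 3 →* G) (U : Subgroup G) : Subgroup (SU 4 F 3) :=
  Subgroup.closure {y | y ^ 3 = 1 ∧ Φ y ∈ U}

include hF

theorem invol_unique {a b : Fin n} (hab : a ≠ b) {g : SU n F 3}
    (hg : g ∈ Win F 3 ({a, b} : Finset (Fin n))) (h2 : g * g = 1) :
    g = 1 ∨ suMat g = sgn F {a, b} := by
  let f : Fin 2 ↪ Fin n := ⟨![a, b], fun i j h => by
    fin_cases i <;> fin_cases j <;> first
      | rfl
      | exact absurd h hab
      | exact absurd h hab.symm⟩
  have hS : Finset.univ.map f = ({a, b} : Finset (Fin n)) := by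
    ext x
    simp only [Finset.mem_map, Finset.mem_univ, true_and, Fin.exists_fin_two, Finset.mem_insert,
      Finset.mem_singleton]
    exact or_congr eq_comm eq_comm
  obtain ⟨x, rfl⟩ := emb_surj hF f (hS.symm ▸ hg)
  have hx : x * x = 1 := emb_injective hF f (by rw [map_mul, h2, map_one])
  have hinv : suMat x * suMat x = 1 := by rw [← suMat_mul, hx, suMat_one]
  have e00 := congrFun (congrFun hinv 0) 0
  have e01 := congrFun (congrFun hinv 0) 1
  have hd : (suMat x).det = 1 := x.1.2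
  rw [det_fin_two] at hd
  simp [Matrix.mul_apply, Fin.sum_univ_two] at e00 e01
  obtain ⟨s1, s2⟩ := su2_shape hF x
  rw [s1, s2] at hd
  rw [s1] at e00
  rw [s2] at e01
  -- `x` equals its adjugate
  have z : suMat x 0 1 = 0 := by
    by_contra h0
    have hsum : suMat x 0 0 + suMat x 0 0 ^ 3 = 0 := by
      refine (mul_eq_zero.1 (?_ : suMat x 0 1 * (suMat x 0 0 + suMat x 0 0 ^ 3) = 0)).resolve_left h0
      linear_combination e01
    have h4 : (2 : F) = 0 := by linear_combination suMat x 0 0 * hsum - hd - e00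
    exact two_ne hF h4
  rw [z] at e00 hd
  have hsq : (suMat x 0 0 - 1) * (suMat x 0 0 + 1) = 0 := by linear_combination e00
  rcases mul_eq_zero.1 hsq with h | h
  · left
    rw [← map_one (emb hF f)]
    refine congrArg _ (su2_ext hF ?_ ?_)
    · rw [suMat_one, one_apply_eq]; linear_combination h
    · rw [suMat_one, z, one_apply_ne (by decide)]
  · right
    have h00 : suMat x 0 0 = -1 := by linear_combination h
    have hx' : ∀ r s, suMat x r s = if r = s then -1 else 0 := Fin.forall_fin_two.2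
      ⟨Fin.forall_fin_two.2 ⟨by simp [h00], by simp [z]⟩,
        Fin.forall_fin_two.2 ⟨by simp [s1, z], by simp [s2, h00]; norm_num⟩⟩
    ext r s
    by_cases hr : r ∈ Set.range f
    · obtain ⟨r', rfl⟩ := hr
      have hr' : f r' ∈ ({a, b} : Finset (Fin n)) := by rw [← hS]; simp
      by_cases hs : s ∈ Set.range f
      · obtain ⟨s', rfl⟩ := hs
        rw [emb_apply hF, hx', sgn, diagonal_apply, if_pos hr']
        simp [f.injective.eq_iff]
      · have hne : f r' ≠ s := fun e => hs ⟨r', e⟩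
        rw [emb_apply_right hF f x _ hs, sgn, diagonal_apply_ne _ hne, one_apply_ne hne]
    · have hr' : r ∉ ({a, b} : Finset (Fin n)) := fun h => hr (by
        rw [← hS] at h; simpa using h)
      rw [emb_apply_left hF f x hr, sgn, diagonal_apply, if_neg hr', one_apply]

/-- Conjugation carries images of windows. -/
theorem map_conj_win {H : Type v} [Group H] (Φ : SU n F 3 →* H) {M : SU n F 3}
    {S T : Finset (Fin n)} (h : suMat M * sgn F S = sgn F T * suMat M) :
    (Win F 3 S).map (Φ.comp (MulAut.conj M).toMonoidHom) = (Win F 3 T).map Φ := by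
  ext x
  constructor
  · rintro ⟨g, hg, rfl⟩
    exact ⟨M * g * M⁻¹, (conj_mem_win hF h).2 hg, by simp⟩
  · rintro ⟨g, hg, rfl⟩
    refine ⟨M⁻¹ * g * M, (conj_mem_win hF h).1 ?_, by simp [mul_assoc]⟩
    rwa [show M * (M⁻¹ * g * M) * M⁻¹ = g by group]

variable {Φ : SU 4 F 3 →* G} (hker : Φ.ker ≤ Subgroup.center (SU 4 F 3))
include hker

theorem ker_four {c : SU 4 F 3} (hc : Φ c = 1) : c ^ 4 = 1 := by
  obtain ⟨l, hl, e⟩ := scalar_of_mem_center hF (by norm_num) (hker (MonoidHom.mem_ker.2 hc))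
  refine SU_ext (show suMat (c ^ 4) = suMat (1 : SU 4 F 3) from ?_)
  rw [pow_succ, pow_succ, pow_succ, pow_one, suMat_mul, suMat_mul, suMat_mul, e, suMat_one]
  simp only [smul_mul_assoc, mul_smul_comm, one_mul, smul_smul]
  rw [show l * (l * (l * l)) = l ^ (3 + 1) by ring, hl, one_smul]

theorem ker_cube {c : SU 4 F 3} (hc : Φ c = 1) (h3 : c ^ 3 = 1) : c = 1 := by
  have h := ker_four hF hker hc
  rwa [pow_succ, h3, one_mul] at h

theorem cube_eq {y y' : SU 4 F 3} (h : y ^ 3 = 1) (h' : y' ^ 3 = 1) (e : Φ y = Φ y') : y = y' := by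
  have hc : Φ (y⁻¹ * y') = 1 := by rw [map_mul, map_inv, e, inv_mul_cancel]
  have hcen := Subgroup.mem_center_iff.1 (hker (MonoidHom.mem_ker.2 hc))
  have h3 : (y⁻¹ * y') ^ 3 = 1 := by
    have hcm : Commute y (y⁻¹ * y') := hcen y
    have h5 := hcm.mul_pow 3
    rw [mul_inv_cancel_left, h', h, one_mul] at h5
    exact h5.symm
  exact inv_mul_eq_one.1 (ker_cube hF hker hc h3)

theorem cube_lift {u : G} (hu : u ∈ Φ.range) (h3 : u ^ 3 = 1) :
    ∃ y : SU 4 F 3, y ^ 3 = 1 ∧ Φ y = u := by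
  obtain ⟨x, rfl⟩ := hu
  refine ⟨x ^ 4, ?_, ?_⟩
  · rw [← pow_mul, mul_comm, pow_mul]
    exact ker_four hF hker (by rw [map_pow, h3])
  · rw [map_pow, pow_succ, h3, one_mul]

theorem map_lift3 {U : Subgroup G} (hU : U ≤ Φ.range) (hgen : Subgroup.closure (cubes U) = U) :
    (lift3 Φ U).map Φ = U := by
  rw [lift3, MonoidHom.map_closure]
  conv_rhs => rw [← hgen]
  congr 1
  ext u
  constructor
  · rintro ⟨y, ⟨h3, hy⟩, rfl⟩
    exact ⟨by rw [← map_pow, h3, map_one], hy⟩
  · rintro ⟨h3, hu⟩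
    obtain ⟨y, hy3, rfl⟩ := cube_lift hF hker (hU hu) h3
    exact ⟨y, ⟨hy3, hu⟩, rfl⟩

/-- An element whose image centralises `U` centralises its lift. -/
theorem lift3_comm {U : Subgroup G} {x : SU 4 F 3} (hx : ∀ u ∈ U, Φ x * u = u * Φ x) :
    ∀ y ∈ lift3 Φ U, x * y = y * x := by
  intro y hy
  have h : lift3 Φ U ≤ Subgroup.centralizer {x} := by
    refine (Subgroup.closure_le _).2 fun g hg => Subgroup.mem_centralizer_singleton_iff.2 ?_
    have h4 := cube_eq hF hker (y := x * g * x⁻¹) (y' := g) (by rw [conj_pow, hg.1]; group) hg.1 (by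
      rw [map_mul, map_mul, map_inv, hx _ hg.2, mul_inv_cancel_right])
    exact (mul_inv_eq_iff_eq_mul.1 h4).symm
  exact (Subgroup.mem_centralizer_singleton_iff.1 (h hy)).symm

theorem lift3_comm' {U U' : Subgroup G} (hc : ∀ x ∈ U, ∀ y ∈ U', x * y = y * x) :
    ∀ x ∈ lift3 Φ U, ∀ y ∈ lift3 Φ U', x * y = y * x := by
  intro x hx y hy
  refine lift3_comm hF hker (fun u hu => ?_) y hy
  have h : lift3 Φ U ≤ (Subgroup.centralizer (U' : Set G)).comap Φ :=
    (Subgroup.closure_le _).2 fun g hg => Subgroup.mem_comap.2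
      (Subgroup.mem_centralizer_iff.2 fun v hv => (hc _ hg.2 v hv).symm)
  exact (Subgroup.mem_centralizer_iff.1 (Subgroup.mem_comap.1 (h hx)) u hu).symm

theorem ker_win {S : Finset (Fin 4)} {j : Fin 4} (hj : j ∉ S) {g : SU 4 F 3}
    (hg : g ∈ Win F 3 S) (h : Φ g = 1) : g = 1 := by
  obtain ⟨l, -, e⟩ := scalar_of_mem_center hF (by norm_num) (hker (MonoidHom.mem_ker.2 h))
  have h2 := congrFun (hg j hj) j
  rw [e, smul_mulVec, one_mulVec] at h2
  simp at h2
  exact SU_ext (show suMat g = suMat 1 by rw [e, h2, one_smul, suMat_one])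

theorem mem_of_lift {a b j : Fin 4} (hj : j ∉ ({a, b} : Finset (Fin 4))) {y : SU 4 F 3}
    (h3 : y ^ 3 = 1) (hy : Φ y ∈ (Win F 3 ({a, b} : Finset (Fin 4))).map Φ) :
    y ∈ Win F 3 ({a, b} : Finset (Fin 4)) := by
  obtain ⟨g, hg, e⟩ := hy
  have hg3 : g ^ 3 = 1 := ker_win hF hker hj (pow_mem hg 3) (by rw [map_pow, e, ← map_pow, h3, map_one])
  rw [← cube_eq hF hker hg3 h3 e]
  exact hg

/-- The lift of a central involution. -/
theorem exists_invol (χ : SU 3 F 3 →* G) (hχ : Function.Injective χ) (hr : χ.range ≤ Φ.range)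
    {U' : Subgroup G} (hc : ∀ x ∈ (Win F 3 ({0, 1} : Finset (Fin 3))).map χ, ∀ y ∈ U',
      x * y = y * x) :
    ∃ X : SU 4 F 3, X * X = 1 ∧ (¬ ∃ l : F, suMat X = l • 1) ∧
      (∃ a ∈ lift3 Φ ((Win F 3 ({0, 1} : Finset (Fin 3))).map χ),
        ∃ b ∈ lift3 Φ ((Win F 3 ({0, 1} : Finset (Fin 3))).map χ), a * b ≠ b * a) ∧
      (∀ y ∈ lift3 Φ ((Win F 3 ({0, 1} : Finset (Fin 3))).map χ), X * y = y * X) ∧
      ∀ y ∈ lift3 Φ U', X * y = y * X := by
  set U := (Win F 3 ({0, 1} : Finset (Fin 3))).map χ with hUdef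
  have hU : (lift3 Φ U).map Φ = U := map_lift3 hF hker
    (le_trans (Subgroup.map_le_range χ _) hr) (map_gen hF χ (by decide))
  obtain ⟨t, w, z, ht, hw, hzm, hz, htw, htt, hz1⟩ :=
    pair_elems hF (show (0 : Fin 3) ≠ 1 by decide)
  have get : ∀ g ∈ Win F 3 ({0, 1} : Finset (Fin 3)), ∃ y ∈ lift3 Φ U, Φ y = χ g := fun g hg => by
    have h : χ g ∈ (lift3 Φ U).map Φ := hU.symm ▸ ⟨g, hg, rfl⟩
    exact h
  obtain ⟨T, hT, eT⟩ := get t ht
  obtain ⟨W, hW, eW⟩ := get w hw
  set X := T * W * T⁻¹ * W⁻¹ with hX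
  have eX : Φ X = χ z := by
    rw [hX, map_mul, map_mul, map_mul, map_inv, map_inv, eT, eW, ← map_inv, ← map_inv, ← map_mul,
      ← map_mul, ← map_mul, htw]
    congr 1
    group
  have hXU : ∀ y ∈ lift3 Φ U, X * y = y * X := lift3_comm hF hker fun u ⟨g, hg, e⟩ => by
    rw [eX, ← e, ← map_mul, ← map_mul]
    congr 1
    refine SU_ext (show suMat (z * g) = suMat (g * z) from ?_)
    rw [suMat_mul, suMat_mul, hz, win_sgn_comm hF hg]
  have hXX : X * X = 1 := by
    obtain ⟨k, hk, hkc⟩ : ∃ k, T * T = X * k ∧ ∀ g, g * k = k * g := by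
      refine ⟨X⁻¹ * (T * T), by group, Subgroup.mem_center_iff.1 (hker (MonoidHom.mem_ker.2 ?_))⟩
      rw [map_mul, map_inv, eX, map_mul, eT, ← map_mul, htt, inv_mul_cancel]
    have hTW : T * W = X * W * T := by rw [hX]; group
    have hXT := hXU T hT
    have hXW := hXU W hW
    have h := calc X * W * k = X * k * W := by rw [mul_assoc, hkc, ← mul_assoc]
      _ = T * (T * W) := by rw [← hk, mul_assoc]
      _ = X * (T * W) * T := by
        rw [hTW, ← mul_assoc T, ← mul_assoc T, ← hXT, mul_assoc X T W, ← hTW, mul_assoc X]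
      _ = X * X * W * (T * T) := by rw [hTW]; group
      _ = X * (X * X) * W * k := by
        rw [hk, ← mul_assoc, mul_assoc (X * X) W X, ← hXW]; group
    rw [mul_left_inj, mul_left_inj] at h
    exact (mul_left_cancel (a := X) (by rw [mul_one]; exact h)).symm
  refine ⟨X, hXX, fun ⟨l, hl⟩ => ?_, ⟨T, hT, W, hW, fun e => ?_⟩, hXU, fun y hy => ?_⟩
  · obtain ⟨v, hv, hv'⟩ := sgn_not_comm hF (a := (0 : Fin 3)) (b := 1) (c := 2) (by decide)
      (by decide) (by decide) hz
    obtain ⟨Y, hY⟩ := hr ⟨v, rfl⟩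
    refine hv' (hχ ?_)
    rw [map_mul, map_mul, ← hY, ← eX, ← map_mul, ← map_mul,
      show Y * X = X * Y from SU_ext (show suMat (Y * X) = suMat (X * Y) by
        rw [suMat_mul Y X, suMat_mul X Y, hl, mul_smul_comm, smul_mul_assoc, mul_one, one_mul])]
  · refine hz1 (hχ ?_)
    rw [map_one, ← eX, hX, e, mul_inv_cancel_right, mul_inv_cancel, map_one]
  · exact lift3_comm' hF hker hc X (by
      rw [hX]; exact mul_mem (mul_mem (mul_mem hT hW) (inv_mem hT)) (inv_mem hW)) y hy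

omit hker in
theorem sort_signs {e : Fin 4 → F} (he : ∀ i, e i = 1 ∨ e i = -1) (hp : e 0 * e 1 * e 2 * e 3 = 1)
    (hne : ¬ ∀ i j, e i = e j) :
    ∃ σ : Equiv.Perm (Fin 4), ∀ i, e (σ i) = if i ∈ ({0, 1} : Finset (Fin 4)) then -1 else 1 := by
  have hn1 : (-1 : F) ≠ 1 := fun h => two_ne hF (by linear_combination -h)
  rcases he 0 with h0 | h0 <;> rcases he 1 with h1 | h1 <;> rcases he 2 with h2 | h2 <;>
    rcases he 3 with h3 | h3 <;> simp [h0, h1, h2, h3] at hp <;> first
      | exact absurd hp hn1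
      | exact absurd hp.symm hn1
      | (refine absurd (fun i j => ?_) hne
         fin_cases i <;> fin_cases j <;> (simp [h0, h1, h2, h3]; done))
      | (refine ⟨1, fun i => ?_⟩
         fin_cases i <;> (simp [h0, h1, h2, h3, Equiv.swap_apply_def]; done))
      | (refine ⟨Equiv.swap 1 2, fun i => ?_⟩
         fin_cases i <;> (simp [h0, h1, h2, h3, Equiv.swap_apply_def]; done))
      | (refine ⟨Equiv.swap 1 3, fun i => ?_⟩
         fin_cases i <;> (simp [h0, h1, h2, h3, Equiv.swap_apply_def]; done))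
      | (refine ⟨Equiv.swap 0 2, fun i => ?_⟩
         fin_cases i <;> (simp [h0, h1, h2, h3, Equiv.swap_apply_def]; done))
      | (refine ⟨Equiv.swap 0 3, fun i => ?_⟩
         fin_cases i <;> (simp [h0, h1, h2, h3, Equiv.swap_apply_def]; done))
      | (refine ⟨Equiv.swap 0 2 * Equiv.swap 1 3, fun i => ?_⟩
         fin_cases i <;> (simp [h0, h1, h2, h3, Equiv.swap_apply_def]; done))

/-- The outer pairs can be moved onto the standard disjoint pair windows. -/
theorem exists_outer (χ χ' : SU 3 F 3 →* G) (hχ : Function.Injective χ)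
    (hχ' : Function.Injective χ') (hr : χ.range ≤ Φ.range) (hr' : χ'.range ≤ Φ.range)
    (hc : ∀ x ∈ (Win F 3 ({0, 1} : Finset (Fin 3))).map χ,
      ∀ y ∈ (Win F 3 ({1, 2} : Finset (Fin 3))).map χ', x * y = y * x) :
    ∃ M : SU 4 F 3,
      (Win F 3 ({0, 1} : Finset (Fin 4))).map (Φ.comp (MulAut.conj M).toMonoidHom) =
        (Win F 3 ({0, 1} : Finset (Fin 3))).map χ ∧
      (Win F 3 ({2, 3} : Finset (Fin 4))).map (Φ.comp (MulAut.conj M).toMonoidHom) =
        (Win F 3 ({1, 2} : Finset (Fin 3))).map χ' := by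
  set U := (Win F 3 ({0, 1} : Finset (Fin 3))).map χ with hU
  set U' := (Win F 3 ({1, 2} : Finset (Fin 3))).map χ' with hU'
  obtain ⟨X, hXX, hXs, nU, hXU, hXU'⟩ := exists_invol hF hker χ hχ hr hc
  have hmat : suMat X * suMat X = 1 := by rw [← suMat_mul, hXX, suMat_one]
  obtain ⟨b, e, hb, -, he⟩ := exists_eigen_frame hF (SU_isIso X) hmat 4 ⊤ (isNondeg_top hF)
    (fun _ _ => trivial) (by simp)
  obtain ⟨M₀, hM₀⟩ := exists_of_frame hF (by norm_num) hb
  have hd₀ := mul_diag_eq hF hM₀ (fun i => (he i).2)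
  obtain ⟨σ, hσ⟩ : ∃ σ : Equiv.Perm (Fin 4),
      ∀ i, e (σ i) = if i ∈ ({0, 1} : Finset (Fin 4)) then -1 else 1 := by
    refine sort_signs hF (fun i => (he i).1) ?_ fun hall => hXs ⟨e 0, ?_⟩
    · have h := congrArg Matrix.det hd₀
      have d1 : (suMat M₀).det = 1 := M₀.1.2
      have d2 : (suMat X).det = 1 := X.1.2
      simpa [det_mul, d1, d2, det_diagonal, Fin.prod_univ_four] using h
    · have hE : (diagonal e : Matrix (Fin 4) (Fin 4) F) = e 0 • 1 := by
        ext i j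
        by_cases hij : i = j
        · subst hij; simp [hall i 0]
        · simp [hij]
      rw [hE, mul_smul_comm, mul_one] at hd₀
      calc suMat X = suMat X * suMat M₀ * suMat M₀⁻¹ := by
            rw [mul_assoc, ← suMat_mul, mul_inv_cancel, suMat_one, mul_one]
        _ = e 0 • (suMat M₀ * suMat M₀⁻¹) := by rw [← hd₀, smul_mul_assoc]
        _ = e 0 • 1 := by rw [← suMat_mul, mul_inv_cancel, suMat_one]
  obtain ⟨M, hM⟩ := exists_of_frame hF (by norm_num) (b := b ∘ σ) (fun i j => by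
    simpa [σ.injective.eq_iff] using hb (σ i) (σ j))
  have hd : suMat M * sgn F {0, 1} = suMat X * suMat M :=
    mul_diag_eq hF hM (fun i => by rw [← hσ i]; exact (he (σ i)).2)
  set Φ₁ := Φ.comp (MulAut.conj M).toMonoidHom with hΦ₁
  have hker₁ : Φ₁.ker ≤ Subgroup.center (SU 4 F 3) := fun g hg => by
    have h := hker (show M * g * M⁻¹ ∈ Φ.ker from hg)
    refine Subgroup.mem_center_iff.2 fun k => ?_
    have h2 := Subgroup.mem_center_iff.1 h (M * k * M⁻¹)
    calc k * g = M⁻¹ * (M * k * M⁻¹ * (M * g * M⁻¹)) * M := by group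
      _ = g * k := by rw [h2]; group
  have hrng : Φ₁.range = Φ.range :=
    by rw [hΦ₁, MonoidHom.range_comp, MonoidHom.range_eq_top.2 (MulAut.conj M).surjective,
      ← MonoidHom.range_eq_map]
  have back : ∀ W : Subgroup G, ∀ y ∈ lift3 Φ₁ W, M * y * M⁻¹ ∈ lift3 Φ W := by
    intro W y hy
    have h : lift3 Φ₁ W ≤ (lift3 Φ W).comap (MulAut.conj M).toMonoidHom :=
      (Subgroup.closure_le _).2 fun g hg => Subgroup.subset_closure
        ⟨by show (M * g * M⁻¹) ^ 3 = 1; rw [conj_pow, hg.1]; group, hg.2⟩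
    exact h hy
  have sgnc : ∀ W : Subgroup G, (∀ y ∈ lift3 Φ W, X * y = y * X) →
      ∀ y ∈ lift3 Φ₁ W, suMat y * sgn F {0, 1} = sgn F {0, 1} * suMat y := by
    intro W hW y hy
    have h : suMat X * suMat (M * y * M⁻¹) = suMat (M * y * M⁻¹) * suMat X :=
      congrArg suMat (hW _ (back W y hy))
    have hd' : sgn F {0, 1} = suMat M⁻¹ * suMat X * suMat M := by
      rw [mul_assoc, ← hd, ← mul_assoc, ← suMat_mul, inv_mul_cancel, suMat_one, one_mul]
    simp only [suMat_mul] at h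
    rw [hd']
    calc suMat y * (suMat M⁻¹ * suMat X * suMat M)
        = suMat M⁻¹ * (suMat M * suMat y * suMat M⁻¹ * suMat X) * suMat M := by
          simp only [← mul_assoc]; rw [← suMat_mul M⁻¹ M, inv_mul_cancel, suMat_one, one_mul]
      _ = suMat M⁻¹ * (suMat X * (suMat M * suMat y * suMat M⁻¹)) * suMat M := by rw [h]
      _ = _ := by
          simp only [mul_assoc]; rw [← suMat_mul M⁻¹ M, inv_mul_cancel, suMat_one, mul_one]
  -- lifts in the new coordinates
  set A := lift3 Φ₁ U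
  set B := lift3 Φ₁ U'
  have hA : A.map Φ₁ = U := map_lift3 hF hker₁
    (by rw [hrng]; exact le_trans (Subgroup.map_le_range χ _) hr) (map_gen hF χ (by decide))
  have hB : B.map Φ₁ = U' := map_lift3 hF hker₁
    (by rw [hrng]; exact le_trans (Subgroup.map_le_range χ' _) hr') (map_gen hF χ' (by decide))
  have closed : ∀ W : Subgroup G, Subgroup.closure (cubes (lift3 Φ₁ W)) = lift3 Φ₁ W := fun W =>
    le_antisymm ((Subgroup.closure_le _).2 fun g hg => hg.2)
      (Subgroup.closure_mono fun g hg => ⟨hg.1, Subgroup.subset_closure hg⟩)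
  have nonab : ∀ (κ : SU 3 F 3 →* G) (a b : Fin 3) (W : Subgroup G), a ≠ b →
      Function.Injective κ → (lift3 Φ₁ W).map Φ₁ = W →
      W = (Win F 3 ({a, b} : Finset (Fin 3))).map κ →
      ∃ x ∈ lift3 Φ₁ W, ∃ y ∈ lift3 Φ₁ W, x * y ≠ y * x := by
    intro κ a b W hab hκ hW hW'
    obtain ⟨t, w, z, ht, hw, -, -, htw, -, hz1⟩ := pair_elems hF hab
    have get : ∀ g ∈ Win F 3 ({a, b} : Finset (Fin 3)), ∃ y ∈ lift3 Φ₁ W, Φ₁ y = κ g := by
      intro g hg
      have h : κ g ∈ (lift3 Φ₁ W).map Φ₁ := by rw [hW, hW']; exact ⟨g, hg, rfl⟩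
      exact h
    obtain ⟨T, hT, eT⟩ := get t ht
    obtain ⟨V, hV, eV⟩ := get w hw
    refine ⟨T, hT, V, hV, fun e => hz1 ?_⟩
    have h : t * w = w * t := hκ (by rw [map_mul, map_mul, ← eT, ← eV, ← map_mul, ← map_mul, e])
    rw [h, mul_assoc] at htw
    exact right_eq_mul.1 htw
  have full : ∀ (κ : SU 3 F 3 →* G) (a b : Fin 3) (S : Finset (Fin 4)) (W : Subgroup G), a ≠ b →
      Function.Injective κ → (S = {0, 1} ∨ S = {2, 3}) → lift3 Φ₁ W ≤ Win F 3 S →
      (lift3 Φ₁ W).map Φ₁ = W → W = (Win F 3 ({a, b} : Finset (Fin 3))).map κ →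
      (Win F 3 S).map Φ₁ = W := by
    intro κ a b S W hab hκ hS hle hW hW'
    have hcS : Nat.card (Win F 3 S) = Nat.card (SU 2 F 3) := by
      rcases hS with rfl | rfl <;> exact card_pair hF (by decide)
    have hcW : Nat.card W = Nat.card (SU 2 F 3) := by
      rw [hW', Subgroup.card_map_of_injective hκ, card_pair hF hab]
    have h1 : Nat.card W ≤ Nat.card (lift3 Φ₁ W) := by
      conv_lhs => rw [← hW]
      exact Nat.le_of_dvd Nat.card_pos (Subgroup.card_map_dvd _ _)
    have h2 : lift3 Φ₁ W = Win F 3 S := Subgroup.eq_of_le_of_card_ge hle (by omega)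
    rw [← h2, hW]
  rcases split_pair hF (closed U) (closed U') (nonab χ 0 1 U (by decide) hχ hA rfl)
      (nonab χ' 1 2 U' (by decide) hχ' hB rfl) (lift3_comm' hF hker₁ hc) (sgnc U hXU)
      (sgnc U' hXU') with ⟨h1, h2⟩ | ⟨h1, h2⟩
  · exact ⟨M, full χ 0 1 _ U (by decide) hχ (Or.inl rfl) h1 hA rfl,
      full χ' 1 2 _ U' (by decide) hχ' (Or.inr rfl) h2 hB rfl⟩
  · obtain ⟨P, hP⟩ := exists_perm hF (n := 4) (by norm_num) (Equiv.swap 0 2 * Equiv.swap 1 3)
    have hev : ∀ (S : Finset (Fin 4)) (i : Fin 4),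
        sgn F S *ᵥ (δ i : Fin 4 → F) = (if i ∈ S then (-1 : F) else 1) • δ i := fun S i => by
      by_cases h : i ∈ S <;> simp [sgn, h, ← Pi.single_neg]
    have e1 : suMat P * sgn F {0, 1} = sgn F {2, 3} * suMat P := mul_diag_eq hF hP fun i => by
      rw [hev]; congr 1; fin_cases i <;> simp [Equiv.swap_apply_def]
    have e2 : suMat P * sgn F {2, 3} = sgn F {0, 1} * suMat P := mul_diag_eq hF hP fun i => by
      rw [hev]; congr 1; fin_cases i <;> simp [Equiv.swap_apply_def]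
    refine ⟨M * P, ?_, ?_⟩
    all_goals rw [show Φ.comp (MulAut.conj (M * P)).toMonoidHom =
        Φ₁.comp (MulAut.conj P).toMonoidHom from MonoidHom.ext fun g => by
          simp [hΦ₁, mul_assoc]]
    · rw [map_conj_win hF Φ₁ e1]
      exact full χ 0 1 _ U (by decide) hχ (Or.inr rfl) h1 hA rfl
    · rw [map_conj_win hF Φ₁ e2]
      exact full χ' 1 2 _ U' (by decide) hχ' (Or.inl rfl) h2 hB rfl

end H70.Phan.Nine
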