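import Cfsg.Agent.H70.Phan.NineFour
import Cfsg.Agent.H70.Phan.NineRecog
import Cfsg.Agent.H70.Phan.AutTorus
import Cfsg.Agent.H41.Phan.Weak

/-!
Automorphisms of `SU_3` over the field with nine elements preserving the two standard pair windows
are twists by diagonal and field automorphisms.
-/

set_option autoImplicit false
set_option linter.unusedSectionVars false

namespace H70.Phan.Nine

open Matrix Cfsg H50 H37 H69.SUW H41.Phan

universe u v

theorem sq_add_one_ne : ∀ c : ZMod 3, c ^ 2 + 1 ≠ 0 := by decide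

variable {F : Type u} [Field F] [Fintype F] (hF : Fintype.card F = 3 ^ 2) {G : Type v} [Group G]
include hF

theorem center_three {g : SU 3 F 3} (hg : g ∈ Subgroup.center (SU 3 F 3)) : g = 1 := by
  have h : Subgroup.center (SU 3 F 3) = ⊥ := by
    refine Subgroup.eq_bot_of_card_eq _ ?_
    rw [card_center_SU hF (by norm_num)]
    rfl
  rwa [h, Subgroup.mem_bot] at hg

theorem gen_blocks : Win F 3 ({0, 1} : Finset (Fin 3)) ⊔ Win F 3 ({1, 2} : Finset (Fin 3)) = ⊤ :=
  top_le_iff.1 fun x _ => gen_three hF le_rfl (i := (0 : Fin 3)) (k := 1) (j := 2) (by decide)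
    (by decide) (by decide) (win_mono (fun i _ => by fin_cases i <;> simp) (win_univ x))

/-- Two field automorphisms agreeing on a square root of minus one are equal. -/
theorem aut_ext {i : F} (hi : i ^ 2 = -1) {s t : F ≃+* F} (h : s i = t i) : s = t := by
  haveI := charThree hF
  haveI : Fact (Nat.Prime 3) := ⟨Nat.prime_three⟩
  let φ : ZMod 3 →+* F := ZMod.castHom dvd_rfl F
  have hni : ∀ a : ZMod 3, φ a ≠ i := fun a e => by
    have h3 : φ (a ^ 2 + 1) = 0 := by rw [map_add, map_pow, e, hi, map_one, neg_add_cancel]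
    exact sq_add_one_ne a (φ.injective (h3.trans (map_zero φ).symm))
  let f : ZMod 3 × ZMod 3 → F := fun p => φ p.1 + φ p.2 * i
  have hinj : Function.Injective f := by
    rintro ⟨a, b⟩ ⟨a', b'⟩ e
    by_cases hb : b = b'
    · subst hb
      simp only [f, add_left_inj] at e
      rw [φ.injective e]
    · exfalso
      have hne : φ (b - b') ≠ 0 := fun e' =>
        hb (sub_eq_zero.1 (φ.injective (e'.trans (map_zero φ).symm)))
      refine hni ((a' - a) / (b - b')) ?_
      rw [map_div₀, div_eq_iff hne, map_sub, map_sub]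
      simp only [f] at e
      linear_combination -e
  have hbij := (Fintype.bijective_iff_injective_and_card f).2 ⟨hinj, by
    rw [Fintype.card_prod, ZMod.card, hF]; rfl⟩
  refine RingEquiv.ext fun x => ?_
  obtain ⟨⟨a, b⟩, rfl⟩ := hbij.2 x
  simp only [f, map_add, map_mul, h]
  have : ∀ (u : F ≃+* F) (c : ZMod 3), u (φ c) = φ c := fun u c =>
    RingHom.congr_fun (RingHom.ext_zmod (u.toRingHom.comp φ) φ) c
  rw [this, this, this, this]

/-- The block of an automorphism is a twist. -/
theorem block_twist (β : SU 3 F 3 ≃* SU 3 F 3) {a b c : Fin 3} (hab : a ≠ b) (hbc : b ≠ c)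
    (hac : a ≠ c)
    (h1 : ∀ g ∈ Win F 3 ({a, b} : Finset (Fin 3)), β g ∈ Win F 3 ({a, b} : Finset (Fin 3)))
    (h2 : ∀ g ∈ Win F 3 ({b, c} : Finset (Fin 3)), β g ∈ Win F 3 ({b, c} : Finset (Fin 3))) :
    ∃ (u : F) (s : F ≃+* F), u ^ (3 + 1) = 1 ∧ ∀ (d : Fin 3 → F) (hd : ∀ i, d i ^ (3 + 1) = 1),
      d a * d b ^ 3 = u → ∀ g ∈ Win F 3 ({a, b} : Finset (Fin 3)),
        β g = H41.Phan.twist hF d hd s g := by
  let f : Fin 2 ↪ Fin 3 := ⟨![a, b], fun i j h => by
    fin_cases i <;> fin_cases j <;> first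
      | rfl
      | exact absurd h hab
      | exact absurd h hab.symm⟩
  have hS : Finset.univ.map f = ({a, b} : Finset (Fin 3)) := by
    ext x
    simp only [Finset.mem_map, Finset.mem_univ, true_and, Fin.exists_fin_two, Finset.mem_insert,
      Finset.mem_singleton]
    exact or_congr eq_comm eq_comm
  have hmem : ∀ x, emb hF f x ∈ Win F 3 ({a, b} : Finset (Fin 3)) := fun x => by
    rw [← hS]; exact (emb_mem_iff hF f x Finset.univ).2 (win_univ x)
  let rest : SU 2 F 3 →* Win F 3 (Finset.univ.map f) :=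
    (β.toMonoidHom.comp (emb hF f)).codRestrict _ fun x => hS.symm ▸ h1 _ (hmem x)
  let αh : SU 2 F 3 →* SU 2 F 3 := (embIso hF f).symm.toMonoidHom.comp rest
  have hα : ∀ x, emb hF f (αh x) = β (emb hF f x) := fun x => by
    rw [← embIso_apply hF]
    exact congrArg Subtype.val ((embIso hF f).apply_symm_apply (rest x))
  let α : SU 2 F 3 ≃* SU 2 F 3 := MulEquiv.ofBijective αh (Finite.injective_iff_bijective.1
    fun x y e => emb_injective hF f (β.injective (by rw [← hα, ← hα, e])))
  obtain ⟨-, -, z, -, -, hz, hzm, -, -, hz1⟩ := pair_elems hF hbc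
  have hβz : suMat (β z) = sgn F {b, c} := by
    have hzz : z * z = 1 := SU_ext (show suMat (z * z) = suMat (1 : SU 3 F 3) by
      rw [suMat_mul, hzm, sgn, diagonal_mul_diagonal, suMat_one, ← diagonal_one]
      congr 1
      funext i
      split_ifs <;> simp)
    rcases invol_unique hF hbc (h2 z hz) (by rw [← map_mul, hzz, map_one]) with h | h
    · exact absurd (β.injective (h.trans (map_one β).symm)) hz1
    · exact h
  have hdiag : ∀ x, suMat x 0 1 = 0 → suMat x 1 0 = 0 →
      suMat (α x) 0 1 = 0 ∧ suMat (α x) 1 0 = 0 := by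
    intro x hx hx'
    have hcomm : suMat (emb hF f x) * suMat z = suMat z * suMat (emb hF f x) := by
      rw [hzm]
      ext i j
      rw [sgn, mul_diagonal, diagonal_mul]
      by_cases hij : i = j
      · subst hij; rw [mul_comm]
      · have h0 : suMat (emb hF f x) i j = 0 := by
          by_cases hi : i ∈ Set.range f
          · by_cases hj : j ∈ Set.range f
            · obtain ⟨i, rfl⟩ := hi
              obtain ⟨j, rfl⟩ := hj
              rw [emb_apply hF]
              fin_cases i <;> fin_cases j <;> first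
                | exact absurd rfl hij
                | exact hx
                | exact hx'
            · rw [emb_apply_right hF f x i hj, one_apply_ne hij]
          · rw [emb_apply_left hF f x hi, one_apply_ne hij]
        simp [h0]
    have h3 : suMat (emb hF f (αh x)) * sgn F {b, c} = sgn F {b, c} * suMat (emb hF f (αh x)) := by
      rw [hα, ← hβz, ← suMat_mul, ← suMat_mul, ← map_mul, ← map_mul,
        show emb hF f x * z = z * emb hF f x from SU_ext (show suMat (emb hF f x * z) =
          suMat (z * emb hF f x) by rw [suMat_mul, suMat_mul, hcomm])]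
    have e1 := congrFun (congrFun h3 (f 0)) (f 1)
    have e2 := congrFun (congrFun h3 (f 1)) (f 0)
    have f0 : f 0 = a := rfl
    have f1 : f 1 = b := rfl
    simp only [sgn, mul_diagonal, diagonal_mul, emb_apply hF] at e1 e2
    simp only [f0, f1, Finset.mem_insert, Finset.mem_singleton, hab, hac, false_or, if_false,
      true_or, if_true] at e1 e2
    constructor
    · refine (mul_eq_zero.1 (show (2 : F) * suMat (αh x) 0 1 = 0 from ?_)).resolve_left (two_ne hF)
      linear_combination -e1
    · refine (mul_eq_zero.1 (show (2 : F) * suMat (αh x) 1 0 = 0 from ?_)).resolve_left (two_ne hF)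
      linear_combination e2
  obtain ⟨u, s, hu, hs⟩ := aut_torus hF α fun b' hb x hx hx' => ⟨x, hx, hx', by
    obtain ⟨y1, y2⟩ := hdiag x hx hx'
    have hb' : b' * b' ^ 3 = 1 := by rw [← pow_succ']; exact hb
    ext i j
    rw [mul_diagonal, diagonal_mul]
    fin_cases i <;> fin_cases j <;> simp [y1, y2]
    linear_combination -(suMat (α x) 0 0) * hb'⟩
  refine ⟨u, s, hu, fun d hd hdu g hg => ?_⟩
  obtain ⟨x, rfl⟩ := emb_surj hF f (hS.symm ▸ hg)
  rw [twist_emb hF, ← hα]
  refine congrArg _ (SU_ext (Matrix.ext fun i j => ?_))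
  show suMat (α x) i j = suMat (H41.Phan.twist hF (d ∘ f) _ s x) i j
  rw [hs x, twist_apply hF, mul_diagonal, diagonal_mul, Matrix.map_apply]
  have u4 : u * u ^ 3 = 1 := by rw [← pow_succ']; exact hu
  have a4 : d a * d a ^ 3 = 1 := by rw [← pow_succ']; exact hd a
  have b4 : d b * d b ^ 3 = 1 := by rw [← pow_succ']; exact hd b
  have uinv : d b * d a ^ 3 = u ^ 3 := by
    rw [← hdu, mul_pow, ← pow_mul, show (3 * 3 : ℕ) = 4 + 4 + 1 from rfl, pow_add, pow_add, pow_one,
      show (4 : ℕ) = 3 + 1 from rfl, hd b]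
    ring
  fin_cases i <;> fin_cases j <;>
    simp [show f 0 = a from rfl, show f 1 = b from rfl]
  · linear_combination (s (suMat x 0 0)) * u4 - (s (suMat x 0 0)) * a4
  · linear_combination -(s (suMat x 0 1)) * hdu
  · linear_combination -(s (suMat x 1 0)) * uinv
  · linear_combination -(s (suMat x 1 1)) * b4

/-- An automorphism of `SU_3` preserving both blocks is a twist. -/
theorem aut_twist (β : SU 3 F 3 ≃* SU 3 F 3)
    (h1 : ∀ g ∈ Win F 3 ({0, 1} : Finset (Fin 3)), β g ∈ Win F 3 ({0, 1} : Finset (Fin 3)))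
    (h2 : ∀ g ∈ Win F 3 ({1, 2} : Finset (Fin 3)), β g ∈ Win F 3 ({1, 2} : Finset (Fin 3))) :
    ∃ (d : Fin 3 → F) (hd : ∀ i, d i ^ (3 + 1) = 1) (s : F ≃+* F),
      (∀ g, β g = H41.Phan.twist hF d hd s g) ∧
      ((∀ g ∈ Win F 3 ({0, 1} : Finset (Fin 3)), β g = g) →
        d 0 = 1 ∧ d 1 = 1 ∧ s = RingEquiv.refl F) := by
  classical
  have p10 : ({1, 0} : Finset (Fin 3)) = {0, 1} := by decide
  have p21 : ({2, 1} : Finset (Fin 3)) = {1, 2} := by decide
  obtain ⟨u, s, hu, hA⟩ := block_twist hF β (a := (0 : Fin 3)) (b := 1) (c := 2) (by decide)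
    (by decide) (by decide) h1 h2
  obtain ⟨u', s', hu', hB⟩ := block_twist hF β (a := (2 : Fin 3)) (b := 1) (c := 0) (by decide)
    (by decide) (by decide) (by rwa [p21]) (by rwa [p10])
  rw [p21] at hB
  set d : Fin 3 → F := ![u, 1, u'] with hd'
  have hd : ∀ i, d i ^ (3 + 1) = 1 := fun i => by fin_cases i <;> simp [d, hu, hu']
  have eA := hA d hd (by simp [d])
  have eB := hB d hd (by simp [d])
  obtain ⟨i, hi, hi4, hi3, hi0, -⟩ := exists_i hF
  -- a torus element of the second block normalises the first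
  obtain ⟨T, hT⟩ := exists_diag hF (![1, i, -i] : Fin 3 → F) (fun k => by
    fin_cases k <;> simp [hi4, Even.neg_pow (by decide : Even 4)]) (by
    simp [Fin.prod_univ_three]; linear_combination -hi)
  have hT2 : T ∈ Win F 3 ({1, 2} : Finset (Fin 3)) := fun k hk => by
    have hk0 : k = 0 := by fin_cases k <;> simp_all
    subst hk0
    rw [hT, diagonal_mulVec_single]
    simp
  have htw : ∀ (r : F ≃+* F), suMat (H41.Phan.twist hF d hd r T) = diagonal ![1, r i, -r i] := by
    intro r
    ext k l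
    have hk := hd k
    rw [pow_succ'] at hk
    rw [twist_apply hF, hT]
    by_cases hkl : k = l
    · subst hkl
      rw [diagonal_apply_eq, diagonal_apply_eq, mul_right_comm, hk, one_mul]
      fin_cases k <;> simp
    · simp [hkl]
  have hss : s = s' := by
    refine aut_ext hF hi ?_
    obtain ⟨W, hW0, hW1⟩ := exists_mk2 hF (α := (0 : F)) (β := 1) (by norm_num)
    let f : Fin 2 ↪ Fin 3 := ⟨![0, 1], by decide⟩
    have hS : Finset.univ.map f = ({0, 1} : Finset (Fin 3)) := by decide
    have hg : emb hF f W ∈ Win F 3 ({0, 1} : Finset (Fin 3)) := by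
      rw [← hS]; exact (emb_mem_iff hF f W Finset.univ).2 (win_univ W)
    have hconj : T * emb hF f W * T⁻¹ ∈ Win F 3 ({0, 1} : Finset (Fin 3)) :=
      H41.Phan.conj_win hF (fun k _ => ⟨(![1, i, -i] : Fin 3 → F) k, by
        rw [hT, diagonal_mulVec_single, mul_one]
        simp [← Pi.single_smul]⟩) hg
    have e := eA _ hconj
    rw [map_mul, map_mul, map_inv, eA _ hg, eB _ hT2, map_mul, map_mul, map_inv] at e
    set A := H41.Phan.twist hF d hd s' T
    set B := H41.Phan.twist hF d hd s T
    set g := H41.Phan.twist hF d hd s (emb hF f W)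
    have hc : B⁻¹ * A * g = g * (B⁻¹ * A) := by
      have e2 : A * g = B * g * B⁻¹ * A := by rw [← e]; group
      rw [mul_assoc, e2]; group
    have hAm : suMat A = diagonal ![1, s' i, -s' i] := htw s'
    have hBm : suMat B = diagonal ![1, s i, -s i] := htw s
    have hBA : suMat B * suMat (B⁻¹ * A * g) = suMat B * suMat (g * (B⁻¹ * A)) := by rw [hc]
    have hq : suMat (B⁻¹ * A) = diagonal ![1, (s i) ^ 3 * s' i, (-s i) ^ 3 * -s' i] := by
      have hd2 : suMat B * diagonal ![1, (s i) ^ 3 * s' i, (-s i) ^ 3 * -s' i] = suMat A := by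
        rw [hBm, hAm, diagonal_mul_diagonal]
        congr 1
        have h4 : s i * s i ^ 3 = 1 := by rw [← pow_succ', ← map_pow, hi4, map_one]
        funext k
        fin_cases k <;> simp
        · linear_combination s' i * h4
        · linear_combination (-s' i) * h4
      rw [suMat_mul, ← hd2, ← mul_assoc, ← suMat_mul, inv_mul_cancel, suMat_one, one_mul]
    have h01 := congrFun (congrFun (congrArg suMat hc) (0 : Fin 3)) 1
    rw [suMat_mul (B⁻¹ * A) g, suMat_mul g (B⁻¹ * A), hq, diagonal_mul, mul_diagonal] at h01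
    have hg01 : suMat g 0 1 ≠ 0 := by
      rw [show suMat g 0 1 = d 0 * s (suMat (emb hF f W) (f 0) (f 1)) * d 1 ^ 3 from
        twist_apply hF d hd s _ 0 1, emb_apply hF, hW1, map_one]
      simp only [d, cons_val_zero, cons_val_one]
      simp
      intro e'
      simp [e'] at hu
    simp at h01
    have h5 : s i ^ 3 * s' i = 1 :=
      mul_left_cancel₀ hg01 (by rw [mul_one]; exact h01.symm)
    have h4 : s i * s i ^ 3 = 1 := by rw [← pow_succ', ← map_pow, hi4, map_one]
    linear_combination -(s i) * h5 + s' i * h4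
  subst hss
  refine ⟨d, hd, s, fun g => ?_, fun hid => ?_⟩
  · have hle : (⊤ : Subgroup (SU 3 F 3)) ≤
        MonoidHom.eqLocus β.toMonoidHom (H41.Phan.twist hF d hd s) := by
      rw [← gen_blocks hF]
      exact sup_le (fun x hx => eA x hx) (fun x hx => eB x hx)
    exact hle (Subgroup.mem_top g)
  · obtain ⟨S, hS0, hS1⟩ := exists_mk2 hF (α := i) (β := 0)
      (by rw [show (3 : ℕ) + 1 = 4 from rfl, hi4, zero_pow (by omega), add_zero])
    obtain ⟨W, hW0, hW1⟩ := exists_mk2 hF (α := (0 : F)) (β := 1) (by norm_num)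
    let f : Fin 2 ↪ Fin 3 := ⟨![0, 1], by decide⟩
    have hS : Finset.univ.map f = ({0, 1} : Finset (Fin 3)) := by decide
    have ent : ∀ (x : SU 2 F 3) (k l : Fin 2),
        d (f k) * s (suMat x k l) * d (f l) ^ 3 = suMat x k l := by
      intro x k l
      have hg : emb hF f x ∈ Win F 3 ({0, 1} : Finset (Fin 3)) := by
        rw [← hS]; exact (emb_mem_iff hF f x Finset.univ).2 (win_univ x)
      have h := congrArg (fun y => suMat y (f k) (f l)) ((hid _ hg).symm.trans (eA _ hg))
      simpa [twist_apply hF, emb_apply hF] using h.symm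
    have hu4 : u * u ^ 3 = 1 := by rw [← pow_succ']; exact hu
    have h1 := ent W 0 1
    have h2 := ent S 0 0
    rw [hW1, map_one] at h1
    rw [hS0] at h2
    have f0 : d (f 0) = u := rfl
    have f1 : d (f 1) = 1 := rfl
    rw [f0, f1, one_pow, mul_one, mul_one] at h1
    rw [f0, mul_right_comm, hu4, one_mul] at h2
    exact ⟨h1, rfl, aut_ext hF hi h2⟩

/-- Two injective homomorphisms with the same block images differ by a twist. -/
theorem hom_twist (κ κ' : SU 3 F 3 →* G) (hκ : Function.Injective κ) (hκ' : Function.Injective κ')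
    (h1 : (Win F 3 ({0, 1} : Finset (Fin 3))).map κ = (Win F 3 ({0, 1} : Finset (Fin 3))).map κ')
    (h2 : (Win F 3 ({1, 2} : Finset (Fin 3))).map κ = (Win F 3 ({1, 2} : Finset (Fin 3))).map κ') :
    ∃ (d : Fin 3 → F) (hd : ∀ i, d i ^ (3 + 1) = 1) (s : F ≃+* F),
      (∀ g, κ g = κ' (H41.Phan.twist hF d hd s g)) ∧
      ((∀ g ∈ Win F 3 ({0, 1} : Finset (Fin 3)), κ g = κ' g) →
        d 0 = 1 ∧ d 1 = 1 ∧ s = RingEquiv.refl F) := by
  have hr : κ.range = κ'.range := by
    rw [MonoidHom.range_eq_map, MonoidHom.range_eq_map, ← gen_blocks hF, Subgroup.map_sup,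
      Subgroup.map_sup, h1, h2]
  let β : SU 3 F 3 ≃* SU 3 F 3 := (MonoidHom.ofInjective hκ).trans
    ((MulEquiv.subgroupCongr hr).trans (MonoidHom.ofInjective hκ').symm)
  have hβ : ∀ g, κ' (β g) = κ g := fun g => by
    exact congrArg Subtype.val ((MonoidHom.ofInjective hκ').apply_symm_apply
      (MulEquiv.subgroupCongr hr (MonoidHom.ofInjective hκ g)))
  have pres : ∀ S : Finset (Fin 3), (Win F 3 S).map κ = (Win F 3 S).map κ' →
      ∀ g ∈ Win F 3 S, β g ∈ Win F 3 S := by
    intro S hS g hg
    obtain ⟨g', hg', e⟩ : κ g ∈ (Win F 3 S).map κ' := hS ▸ ⟨g, hg, rfl⟩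
    rwa [show β g = g' from hκ' (by rw [hβ, e])]
  obtain ⟨d, hd, s, hall, hid⟩ := aut_twist hF β (pres _ h1) (pres _ h2)
  exact ⟨d, hd, s, fun g => by rw [← hall, hβ],
    fun h => hid fun g hg => hκ' (by rw [hβ, h g hg])⟩

end H70.Phan.Nine
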