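import Cfsg.Agent.H70.Phan.NineMiddle
import Cfsg.Agent.H70.Phan.NineTwist
import Cfsg.Agent.H41.Phan.StdPairs

/-!
Weak Phan systems over the field with nine elements.
-/

set_option autoImplicit false
set_option linter.unusedSectionVars false

namespace H70.Phan.Nine

open Matrix Cfsg H50 H37 H69.SUW H41.Phan

universe u v

variable {F : Type u} [Field F] [Fintype F] (hF : Fintype.card F = 3 ^ 2) {N : ℕ}
  {G : Type v} [Group G]
include hF

theorem emb_comp {l m n : ℕ} (f : Fin l ↪ Fin m) (g : Fin m ↪ Fin n) (x : SU l F 3) :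
    emb hF g (emb hF f x) = emb hF (f.trans g) x := by
  refine SU_ext (Matrix.ext fun i j => ?_)
  show suMat _ i j = suMat _ i j
  by_cases hi : i ∈ Set.range g
  · obtain ⟨p, rfl⟩ := hi
    by_cases hj : j ∈ Set.range g
    · obtain ⟨q, rfl⟩ := hj
      rw [emb_apply hF]
      by_cases hp : p ∈ Set.range f
      · obtain ⟨p', rfl⟩ := hp
        by_cases hq : q ∈ Set.range f
        · obtain ⟨q', rfl⟩ := hq
          rw [emb_apply hF]
          exact (emb_apply hF (f.trans g) x p' q').symm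
        · rw [emb_apply_right hF f x _ hq, emb_apply_right hF (f.trans g) x _
            (fun ⟨s, hs⟩ => hq ⟨s, g.injective hs⟩)]
          simp [Matrix.one_apply, g.injective.eq_iff]
      · rw [emb_apply_left hF f x hp, emb_apply_left hF (f.trans g) x
          (fun ⟨s, hs⟩ => hp ⟨s, g.injective hs⟩)]
        simp [Matrix.one_apply, g.injective.eq_iff]
    · rw [emb_apply_right hF g _ _ hj, emb_apply_right hF (f.trans g) x _
        (fun ⟨s, hs⟩ => hj ⟨f s, hs⟩)]
  · rw [emb_apply_left hF g _ hi, emb_apply_left hF (f.trans g) x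
      (fun ⟨s, hs⟩ => hi ⟨f s, hs⟩)]

theorem map_emb_win {m n : ℕ} (f : Fin m ↪ Fin n) (S : Finset (Fin m)) :
    (Win F 3 S).map (emb hF f) = Win F 3 (S.map f) := by
  ext g
  constructor
  · rintro ⟨x, hx, rfl⟩
    exact (emb_mem_iff hF f x S).2 hx
  · intro hg
    obtain ⟨x, rfl⟩ := emb_surj hF f (win_mono (Finset.map_subset_map.2 (Finset.subset_univ S)) hg)
    exact ⟨x, (emb_mem_iff hF f x S).1 hg, rfl⟩

theorem map_twist_win {n : ℕ} (d : Fin n → F) (hd : ∀ i, d i ^ (3 + 1) = 1) (s : F ≃+* F)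
    (S : Finset (Fin n)) : (Win F 3 S).map (H41.Phan.twist hF d hd s) = Win F 3 S := by
  ext g
  constructor
  · rintro ⟨x, hx, rfl⟩
    exact (twist_mem_iff hF d hd s x S).2 hx
  · intro hg
    obtain ⟨x, rfl⟩ := (twist_bijective hF d hd s).2 g
    exact ⟨x, (twist_mem_iff hF d hd s x S).1 hg, rfl⟩

/-- A standard pair read on `SU_3`. -/
theorem exists_kappa {a : ℕ} (ha : a + 3 ≤ N) {U : ℕ → Subgroup G}
    {ψ : Win F 3 (seg N a (a + 3)) →* G} (hψ : StdPair U a ψ) :
    ∃ κ : SU 3 F 3 →* G, Function.Injective κ ∧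
      (∀ x (h : emb hF (shiftEmb ha) x ∈ Win F 3 (seg N a (a + 3))), κ x = ψ ⟨_, h⟩) ∧
      (Win F 3 ({0, 1} : Finset (Fin 3))).map κ = U a ∧
      (Win F 3 ({1, 2} : Finset (Fin 3))).map κ = U (a + 1) ∧ κ.range = U a ⊔ U (a + 1) := by
  have hmem : ∀ x, emb hF (shiftEmb ha) x ∈ Win F 3 (seg N a (a + 3)) := fun x => by
    rw [← map_univ ha, emb_mem_iff hF]; exact win_univ x
  set ι : SU 3 F 3 →* Win F 3 (seg N a (a + 3)) := (emb hF (shiftEmb ha)).codRestrict _ hmem
    with hι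
  have hmap : ∀ c d, d ≤ 3 → (Win F 3 (seg 3 c d)).map (ψ.comp ι) =
      ((Win F 3 (seg N (a + c) (a + d))).subgroupOf _).map ψ := by
    intro c d hd
    rw [← Subgroup.map_map]
    congr 1
    ext g
    constructor
    · rintro ⟨x, hx, rfl⟩
      show emb hF (shiftEmb ha) x ∈ Win F 3 (seg N (a + c) (a + d))
      rw [← map_seg ha hd, emb_mem_iff hF]
      exact hx
    · intro hg
      have hg' : g.1 ∈ Win F 3 ((seg 3 c d).map (shiftEmb ha)) := by
        rw [map_seg ha hd]; exact hg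
      rw [← map_emb_win hF] at hg'
      obtain ⟨x, hx, e⟩ := hg'
      exact ⟨x, hx, Subtype.ext e⟩
  have e01 : seg 3 0 2 = ({0, 1} : Finset (Fin 3)) := by decide
  have e12 : seg 3 1 3 = ({1, 2} : Finset (Fin 3)) := by decide
  have hA : (Win F 3 ({0, 1} : Finset (Fin 3))).map (ψ.comp ι) = U a := by
    rw [← e01, hmap 0 2 (by norm_num)]
    exact hψ.left
  have hB : (Win F 3 ({1, 2} : Finset (Fin 3))).map (ψ.comp ι) = U (a + 1) := by
    rw [← e12, hmap 1 3 le_rfl]
    exact hψ.right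
  refine ⟨ψ.comp ι, (injective_iff_map_eq_one _).2 fun x hx => center_three hF ?_,
    fun x h => rfl, hA, hB, ?_⟩
  · refine Subgroup.mem_center_iff.2 fun k => emb_injective hF (shiftEmb ha) ?_
    have h := congrArg Subtype.val (Subgroup.mem_center_iff.1 (hψ.ker (show ι x ∈ ψ.ker from hx)) (ι k))
    rw [map_mul, map_mul]
    exact h
  · rw [MonoidHom.range_eq_map, ← gen_blocks hF, Subgroup.map_sup, hA, hB]

/-- The homomorphism on four consecutive coordinates. -/
theorem exists_quad_three {a : ℕ} (ha : a + 4 ≤ N) {U : ℕ → Subgroup G}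
    (hcomm : ∀ x ∈ U a, ∀ y ∈ U (a + 2), Commute x y)
    {ψ : Win F 3 (seg N a (a + 3)) →* G} {ψ' : Win F 3 (seg N (a + 1) (a + 1 + 3)) →* G}
    (hψ : StdPair U a ψ) (hψ' : StdPair U (a + 1) ψ')
    (hab : ∀ g (h : g ∈ Win F 3 (seg N a (a + 3)))
      (h' : g ∈ Win F 3 (seg N (a + 1) (a + 1 + 3))), ψ ⟨g, h⟩ = ψ' ⟨g, h'⟩)
    (hfour : ∃ Φ : SU 4 F 3 →* G, U a ≤ Φ.range ∧ U (a + 1) ≤ Φ.range ∧ U (a + 2) ≤ Φ.range) :
    ∃ Q : Win F 3 (seg N a (a + 4)) →* G,
      (∀ g (h : g ∈ Win F 3 (seg N a (a + 3))) (h' : g ∈ Win F 3 (seg N a (a + 4))),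
        Q ⟨g, h'⟩ = ψ ⟨g, h⟩) ∧
      ∀ g (h : g ∈ Win F 3 (seg N (a + 1) (a + 1 + 3))) (h' : g ∈ Win F 3 (seg N a (a + 4))),
        Q ⟨g, h'⟩ = ψ' ⟨g, h⟩ := by
  obtain ⟨κ, hκ, eκ, kA, kB, kr⟩ := exists_kappa hF (show a + 3 ≤ N by omega) hψ
  obtain ⟨κ', hκ', eκ', kA', kB', kr'⟩ := exists_kappa hF (show a + 1 + 3 ≤ N by omega) hψ'
  obtain ⟨Φ, r0, r1, r2⟩ := hfour
  have hr : κ.range ≤ Φ.range := kr ▸ sup_le r0 r1
  have hr' : κ'.range ≤ Φ.range := kr' ▸ sup_le r1 r2
  obtain ⟨t, w, z, ht, hw, hzm, hz, -, -, hz1⟩ := pair_elems hF (show (0 : Fin 3) ≠ 1 by decide)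
  have hker : Φ.ker ≤ Subgroup.center (SU 4 F 3) := by
    rcases normal_le_center_or_eq_top hF (n := 4) (by norm_num) (by norm_num) Φ.ker with h | h
    · exact h
    · exfalso
      obtain ⟨y, hy⟩ := hr ⟨z, rfl⟩
      refine hz1 (hκ ?_)
      rw [← hy, map_one, ← MonoidHom.mem_ker, h]
      trivial
  obtain ⟨M, m01, m12, m23⟩ := exists_standard hF hker κ κ' hκ hκ' hr hr' (kB.trans kA'.symm)
    (fun x hx y hy => (hcomm x (kA ▸ hx) y (kB' ▸ hy)).eq)
  set Φ₁ := Φ.comp (MulAut.conj M).toMonoidHom with hΦ₁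
  have hker₁ : Φ₁.ker ≤ Subgroup.center (SU 4 F 3) := fun g hg => by
    have h := hker (show M * g * M⁻¹ ∈ Φ.ker from hg)
    refine Subgroup.mem_center_iff.2 fun k => ?_
    have h2 := Subgroup.mem_center_iff.1 h (M * k * M⁻¹)
    calc k * g = M⁻¹ * (M * k * M⁻¹ * (M * g * M⁻¹)) * M := by group
      _ = g * k := by rw [h2]; group
  let f₀ : Fin 3 ↪ Fin 4 := shiftEmb (show 0 + 3 ≤ 4 by norm_num)
  let f₁ : Fin 3 ↪ Fin 4 := shiftEmb (show 1 + 3 ≤ 4 by norm_num)
  have inj : ∀ (f : Fin 3 ↪ Fin 4) (j : Fin 4), j ∉ (Finset.univ : Finset (Fin 3)).map f →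
      ∀ x, Φ₁ (emb hF f x) = 1 → x = 1 := fun f j hj x hx => by
    have h := ker_win hF hker₁ hj ((emb_mem_iff hF f x Finset.univ).2 (win_univ x)) hx
    exact emb_injective hF f (h.trans (map_one _).symm)
  have i₀ : Function.Injective (Φ₁.comp (emb hF f₀)) :=
    (injective_iff_map_eq_one _).2 (inj f₀ 3 (by decide))
  -- first correction
  obtain ⟨d, hd, s, hds, -⟩ := hom_twist hF κ (Φ₁.comp (emb hF f₀)) hκ i₀
    (by rw [kA, ← Subgroup.map_map, map_emb_win hF, show ({0, 1} : Finset (Fin 3)).map f₀ =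
      {0, 1} by decide, m01, kA])
    (by rw [kB, ← Subgroup.map_map, map_emb_win hF, show ({1, 2} : Finset (Fin 3)).map f₀ =
      {1, 2} by decide, m12, kB])
  let D : Fin 4 → F := ![d 0, d 1, d 2, 1]
  have hD : ∀ i, D i ^ (3 + 1) = 1 := fun i => by
    fin_cases i
    exacts [hd 0, hd 1, hd 2, one_pow _]
  set Φ₂ := Φ₁.comp (H41.Phan.twist hF D hD s) with hΦ₂
  have h₂ : ∀ x, Φ₂ (emb hF f₀ x) = κ x := fun x => by
    have hDd : D ∘ f₀ = d := by funext i; fin_cases i <;> rfl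
    rw [hds, hΦ₂, MonoidHom.comp_apply, twist_emb hF]
    show Φ₁ _ = Φ₁ (emb hF f₀ _)
    congr 2
    refine SU_ext (Matrix.ext fun i j => ?_)
    show suMat _ i j = suMat _ i j
    rw [twist_apply hF, twist_apply hF, hDd]
  have i₁ : Function.Injective (Φ₂.comp (emb hF f₁)) := by
    refine (injective_iff_map_eq_one _).2 fun x hx => ?_
    have h := ker_win hF hker₁ (j := (0 : Fin 4))
      (show (0 : Fin 4) ∉ (Finset.univ : Finset (Fin 3)).map f₁ by decide)
      (g := H41.Phan.twist hF D hD s (emb hF f₁ x))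
      ((twist_mem_iff hF D hD s _ _).2 ((emb_mem_iff hF f₁ x Finset.univ).2 (win_univ x))) hx
    exact emb_injective hF f₁ (((twist_bijective hF D hD s).1 (h.trans (map_one _).symm)).trans
      (map_one _).symm)
  -- second correction
  obtain ⟨d', hd', s', hds', hid⟩ := hom_twist hF κ' (Φ₂.comp (emb hF f₁)) hκ' i₁
    (by rw [kA', hΦ₂, ← Subgroup.map_map, map_emb_win hF, ← Subgroup.map_map, map_twist_win hF,
      show ({0, 1} : Finset (Fin 3)).map f₁ = {1, 2} by decide, m12, kB])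
    (by rw [kB', hΦ₂, ← Subgroup.map_map, map_emb_win hF, ← Subgroup.map_map, map_twist_win hF,
      show ({1, 2} : Finset (Fin 3)).map f₁ = {2, 3} by decide, m23, kB'])
  obtain ⟨h0, h1, hs'⟩ := hid fun g hg => by
    have hg4 : emb hF f₁ g ∈ Win F 3 (({1, 2} : Finset (Fin 3)).map f₀) := by
      rw [show ({1, 2} : Finset (Fin 3)).map f₀ = ({0, 1} : Finset (Fin 3)).map f₁ by decide]
      exact (emb_mem_iff hF f₁ g _).2 hg
    rw [← map_emb_win hF] at hg4
    obtain ⟨g', -, e⟩ := hg4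
    show κ' g = Φ₂ (emb hF f₁ g)
    rw [← e, h₂]
    have key : emb hF (shiftEmb (show a + 1 + 3 ≤ N by omega)) g =
        emb hF (shiftEmb (show a + 3 ≤ N by omega)) g' := by
      have h := congrArg (emb hF (shiftEmb ha)) e.symm
      rw [emb_comp hF, emb_comp hF] at h
      convert h using 3 <;> ext i
      · show a + 1 + i.1 = a + (1 + i.1)
        omega
      · show a + i.1 = a + (0 + i.1)
        omega
    have m' : emb hF (shiftEmb (show a + 1 + 3 ≤ N by omega)) g ∈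
        Win F 3 (seg N (a + 1) (a + 1 + 3)) := by
      rw [← map_univ (show a + 1 + 3 ≤ N by omega), emb_mem_iff hF]; exact win_univ g
    have m : emb hF (shiftEmb (show a + 3 ≤ N by omega)) g' ∈ Win F 3 (seg N a (a + 3)) := by
      rw [← map_univ (show a + 3 ≤ N by omega), emb_mem_iff hF]; exact win_univ g'
    rw [eκ' g m', eκ g' m, hab _ m (key ▸ m')]
    exact hom_congr ψ' key
  let E : Fin 4 → F := ![1, 1, 1, d' 2]
  have hE : ∀ i, E i ^ (3 + 1) = 1 := fun i => by
    fin_cases i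
    exacts [one_pow _, one_pow _, one_pow _, hd' 2]
  set Φ₃ := Φ₂.comp (H41.Phan.twist hF E hE (RingEquiv.refl F)) with hΦ₃
  have A₃ : ∀ x, Φ₃ (emb hF f₀ x) = κ x := fun x => by
    rw [← h₂ x, hΦ₃, MonoidHom.comp_apply, twist_emb hF]
    congr 2
    refine SU_ext (Matrix.ext fun i j => ?_)
    show suMat _ i j = suMat _ i j
    have hEd : E ∘ f₀ = fun _ => 1 := by funext k; fin_cases k <;> rfl
    rw [twist_apply hF, hEd, RingEquiv.refl_apply, one_pow, one_mul, mul_one]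
  have B₃ : ∀ x, Φ₃ (emb hF f₁ x) = κ' x := fun x => by
    rw [hds' x, hΦ₃, MonoidHom.comp_apply, twist_emb hF]
    show Φ₂ _ = Φ₂ (emb hF f₁ _)
    congr 2
    refine SU_ext (Matrix.ext fun i j => ?_)
    show suMat _ i j = suMat _ i j
    have hEd : E ∘ f₁ = d' := by
      funext k
      fin_cases k
      exacts [h0.symm, h1.symm, rfl]
    rw [twist_apply hF, twist_apply hF, hEd, hs']
  -- read on the window
  have hle : Win F 3 (seg N a (a + 4)) ≤
      Win F 3 ((Finset.univ : Finset (Fin 4)).map (shiftEmb ha)) := by rw [map_univ ha]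
  set ι : Win F 3 (seg N a (a + 4)) →* SU 4 F 3 :=
    (embIso hF (shiftEmb ha)).symm.toMonoidHom.comp (Subgroup.inclusion hle) with hι
  have hemb : ∀ g, emb hF (shiftEmb ha) (ι g) = g.1 := fun g => by
    rw [← embIso_apply hF]
    exact congrArg Subtype.val
      ((embIso hF (shiftEmb ha)).apply_symm_apply (Subgroup.inclusion hle g))
  refine ⟨Φ₃.comp ι, fun g h h' => ?_, fun g h h' => ?_⟩
  · have hg : g ∈ Win F 3 ((Finset.univ : Finset (Fin 3)).map
        (shiftEmb (show a + 3 ≤ N by omega))) := by rw [map_univ]; exact h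
    obtain ⟨x, rfl⟩ := emb_surj hF _ hg
    rw [← eκ x h, ← A₃, MonoidHom.comp_apply]
    congr 1
    refine emb_injective hF (shiftEmb ha) ?_
    rw [hemb, emb_comp hF]
    have e : shiftEmb (show a + 3 ≤ N by omega) = f₀.trans (shiftEmb ha) := by
      ext i
      show a + i.1 = a + (0 + i.1)
      omega
    show emb hF _ x = _
    rw [e]
  · have hg : g ∈ Win F 3 ((Finset.univ : Finset (Fin 3)).map
        (shiftEmb (show a + 1 + 3 ≤ N by omega))) := by rw [map_univ]; exact h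
    obtain ⟨x, rfl⟩ := emb_surj hF _ hg
    rw [← eκ' x h, ← B₃, MonoidHom.comp_apply]
    congr 1
    refine emb_injective hF (shiftEmb ha) ?_
    rw [hemb, emb_comp hF]
    have e : shiftEmb (show a + 1 + 3 ≤ N by omega) = f₁.trans (shiftEmb ha) := by
      ext i
      show a + 1 + i.1 = a + (1 + i.1)
      omega
    show emb hF _ x = _
    rw [e]

/-- Recognition from standard pairs over the field with nine elements. -/
theorem weak_three (hN : 4 ≤ N) (U : ℕ → Subgroup G)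
    (hcomm : ∀ i j, i + 2 ≤ j → j + 2 ≤ N → ∀ x ∈ U i, ∀ y ∈ U j, Commute x y)
    (hpair : ∀ a, a + 3 ≤ N → ∃ ψ : Win F 3 (seg N a (a + 3)) →* G, StdPair U a ψ)
    (hfour : ∀ a, a + 4 ≤ N → ∃ Φ : SU 4 F 3 →* G,
      U a ≤ Φ.range ∧ U (a + 1) ≤ Φ.range ∧ U (a + 2) ≤ Φ.range)
    (hgen : ∀ H : Subgroup G, (∀ a, a + 2 ≤ N → U a ≤ H) → H = ⊤) :
    ∃ f : SU N F 3 →* G, Function.Surjective f := by
  classical
  have hrig : TorusRigid F 3 := fun α hα => H70.Phan.aut_torus hF α hα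
  have key : ∀ m, ∃ ψ : ∀ a : ℕ, Win F 3 (seg N a (a + 3)) →* G,
      (∀ a, a + 3 ≤ N → StdPair U a (ψ a)) ∧ ∀ a, a + 4 ≤ N → a < m →
        ∀ g (h : g ∈ Win F 3 (seg N a (a + 3)))
          (h' : g ∈ Win F 3 (seg N (a + 1) (a + 1 + 3))), ψ a ⟨g, h⟩ = ψ (a + 1) ⟨g, h'⟩ := by
    intro m
    induction m with
    | zero =>
      exact ⟨fun a => if h : a + 3 ≤ N then (hpair a h).choose else 1,
        fun a h => by simp only [dif_pos h]; exact (hpair a h).choose_spec,
        fun a _ h => absurd h (by omega)⟩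
    | succ m ih =>
      obtain ⟨ψ, hgood, hag⟩ := ih
      by_cases hm : m + 4 ≤ N
      · obtain ⟨χ, hχ, hag'⟩ := exists_agree hF (by norm_num) hrig hm
          (fun x hx y hy => hcomm m (m + 2) le_rfl (by omega) x hx y hy)
          (hgood m (by omega)) (hgood (m + 1) (by omega))
        refine ⟨Function.update ψ (m + 1) χ, fun a ha => ?_, fun a ha ha' g h h' => ?_⟩
        · by_cases e : a = m + 1
          · subst e; rw [Function.update_self]; exact hχ
          · rw [Function.update_of_ne e]; exact hgood a ha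
        · rw [Function.update_of_ne (show a ≠ m + 1 by omega)]
          by_cases e : a = m
          · subst e; rw [Function.update_self]; exact hag' g h h'
          · rw [Function.update_of_ne (show a + 1 ≠ m + 1 by omega)]
            exact hag a ha (by omega) g h h'
      · exact ⟨ψ, hgood, fun a ha ha' => hag a ha (by omega)⟩
  obtain ⟨ψ, hgood, hag⟩ := key N
  have hc : ∀ a b c, a + 3 ≤ N → b + 3 ≤ N → ∀ (g : Win F 3 (seg N a (a + 3)))
      (g' : Win F 3 (seg N b (b + 3))), g.1 ∈ Win F 3 (seg N 0 c) → g'.1 ∈ Win F 3 (seg N c N) →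
      Commute (ψ a g) (ψ b g') := by
    intro a b c ha hb g g' hg hg'
    have h1 := image_le hF le_rfl ha (hgood a ha) hg
    have h2 := image_le hF le_rfl hb (hgood b hb) hg'
    have hle : (⨆ (i : ℕ) (_ : c ≤ i ∧ i + 2 ≤ N ∧ b ≤ i ∧ i + 2 ≤ b + 3), U i) ≤
        Subgroup.centralizer
          (↑(⨆ (i : ℕ) (_ : 0 ≤ i ∧ i + 2 ≤ c ∧ a ≤ i ∧ i + 2 ≤ a + 3), U i) : Set G) := by
      refine iSup₂_le fun j hj => ?_
      rw [Subgroup.le_centralizer_iff]
      refine iSup₂_le fun i hi => ?_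
      rw [Subgroup.le_centralizer_iff]
      exact fun y hy x hx => hcomm i j (by omega) (by omega) x hx y hy
    exact hle h2 _ h1
  refine build hF hN ψ (fun H hH => hgen H fun a ha => ?_) hc fun a ha =>
    exists_quad_three hF ha (hcomm a (a + 2) le_rfl (by omega)) (hgood a (by omega))
      (hgood (a + 1) (by omega)) (hag a ha (by omega)) (hfour a ha)
  rcases Nat.lt_or_ge a (N - 2) with h | h
  · rw [← (hgood a (by omega)).left]
    exact (Subgroup.map_le_range _ _).trans (hH a (by omega))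
  · obtain ⟨b, rfl⟩ : ∃ b, a = b + 1 := ⟨a - 1, by omega⟩
    rw [← (hgood b (by omega)).right]
    exact (Subgroup.map_le_range _ _).trans (hH b (by omega))

end H70.Phan.Nine
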